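import Groth.Agent.QCohLib.AffineFinite
import Groth.Agent.TwistLib.HomGlue

/-!
# Morphisms of modules given on affine opens
-/

set_option autoImplicit false
set_option linter.style.haveILetI false
set_option backward.isDefEq.respectTransparency false
set_option backward.isDefEq.respectTransparency.types false
universe u

open CategoryTheory CategoryTheory.Limits TopologicalSpace Opposite AlgebraicGeometry
open AmpleLib (res res_res res_smul)

noncomputable section

namespace WedgeLib

variable {X : Scheme.{u}}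

theorem ext_affine {M : X.Modules} {W : X.Opens} (s s' : Γ(M, W))
    (h : ∀ (V : X.affineOpens) (hV : V.1 ≤ W), res M hV s = res M hV s') : s = s' := by
  choose V hV hxV hVW using fun x : W => exists_isAffineOpen_mem_and_subset (X := X) (x := x.1) (U := W) x.2
  exact TopCat.Sheaf.eq_of_locally_eq' (⟨M.presheaf, M.isSheaf⟩ : TopCat.Sheaf AddCommGrpCat _)
    V W (fun x => homOfLE (hVW x)) (fun x hx => Opens.mem_iSup.2 ⟨⟨x, hx⟩, hxV _⟩) s s'
    fun x => h ⟨V x, hV x⟩ (hVW x)

variable {M N : X.Modules} (f : ∀ U : X.affineOpens, Γ(M, U.1) →ₗ[Γ(X, U.1)] Γ(N, U.1))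

/-- The sections which are locally the image. -/
def IsImage {W : X.Opens} (t : Γ(M, W)) (s : Γ(N, W)) : Prop :=
  ∀ (V : X.affineOpens) (hV : V.1 ≤ W), res N hV s = f V (res M hV t)

/-- **A compatible family of linear maps over the affine opens is a morphism.** -/
theorem exists_hom_affine (hf : ∀ (U V : X.affineOpens) (h : V.1 ≤ U.1) (t : Γ(M, U.1)),
    res N h (f U t) = f V (res M h t)) :
    ∃ φ : M ⟶ N, ∀ (U : X.affineOpens) (t : Γ(M, U.1)), φ.app U.1 t = f U t := by
  have uniq : ∀ {W : X.Opens} (t : Γ(M, W)) (s s' : Γ(N, W)), IsImage f t s → IsImage f t s' → s = s' :=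
    fun t s s' hs hs' => ext_affine s s' fun V hV => (hs V hV).trans (hs' V hV).symm
  have ex : ∀ (W : X.Opens) (t : Γ(M, W)), ∃ s : Γ(N, W), IsImage f t s := by
    intro W t
    choose V hV hxV hVW using fun x : W => exists_isAffineOpen_mem_and_subset (X := X) (x := x.1) (U := W) x.2
    obtain ⟨s, hs, -⟩ := TopCat.Sheaf.existsUnique_gluing' (⟨N.presheaf, N.isSheaf⟩ : TopCat.Sheaf AddCommGrpCat _)
      V W (fun x => homOfLE (hVW x)) (fun x hx => Opens.mem_iSup.2 ⟨⟨x, hx⟩, hxV _⟩)
      (fun x => f ⟨V x, hV x⟩ (res M (hVW x) t)) (fun x y => by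
        refine ext_affine (W := V x ⊓ V y) _ _ fun A hA => ?_
        change res N hA (res N (inf_le_left : V x ⊓ V y ≤ V x) _) = res N hA (res N (inf_le_right : V x ⊓ V y ≤ V y) _)
        rw [res_res, res_res, hf ⟨V x, hV x⟩ A (hA.trans inf_le_left), hf ⟨V y, hV y⟩ A (hA.trans inf_le_right),
          res_res, res_res])
    refine ⟨s, fun A hA => ?_⟩
    choose B hB hxB hBle using fun x : A.1 =>
      exists_isAffineOpen_mem_and_subset (X := X) (x := x.1) (U := A.1 ⊓ V ⟨x.1, hA x.2⟩) ⟨x.2, hxV _⟩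
    refine TopCat.Sheaf.eq_of_locally_eq' (⟨N.presheaf, N.isSheaf⟩ : TopCat.Sheaf AddCommGrpCat _)
      B A.1 (fun x => homOfLE ((hBle x).trans inf_le_left))
      (fun x hx => Opens.mem_iSup.2 ⟨⟨x, hx⟩, hxB _⟩) _ _ fun x => ?_
    have h1 : res N (hVW ⟨x.1, hA x.2⟩) s = f ⟨_, hV _⟩ (res M (hVW ⟨x.1, hA x.2⟩) t) := hs ⟨x.1, hA x.2⟩
    have h2 := congrArg (res N ((hBle x).trans inf_le_right)) h1
    rw [res_res, hf ⟨_, hV _⟩ ⟨B x, hB x⟩ ((hBle x).trans inf_le_right), res_res] at h2
    change res N ((hBle x).trans inf_le_left) (res N hA s) = res N ((hBle x).trans inf_le_left) (f A _)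
    rw [res_res, hf A ⟨B x, hB x⟩ ((hBle x).trans inf_le_left), res_res]
    exact h2
  choose β hβ using ex
  have hadd : ∀ (W : X.Opens) (t t' : Γ(M, W)), β W (t + t') = β W t + β W t' := fun W t t' =>
    uniq _ _ _ (hβ W _) fun V hV => by
      change N.presheaf.map (homOfLE hV).op (β W t + β W t') = f V (M.presheaf.map (homOfLE hV).op (t + t'))
      rw [map_add, map_add, map_add]
      exact congr_arg₂ (· + ·) (hβ W t V hV) (hβ W t' V hV)
  have hlin : ∀ (W : X.Opens) (r : Γ(X, W)) (t : Γ(M, W)), β W (r • t) = r • β W t := fun W r t =>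
    uniq _ _ _ (hβ W _) fun V hV => by
      rw [res_smul, res_smul, map_smul, hβ W t V hV]
  have hnat : ∀ {W W' : X.Opens} (h : W' ≤ W) (t : Γ(M, W)), β W' (res M h t) = res N h (β W t) :=
    fun {W W'} h t => uniq _ _ _ (hβ W' _) fun V hV => by
      rw [res_res, res_res]
      exact hβ W t V (hV.trans h)
  refine ⟨⟨PresheafOfModules.homMk (M₁ := M.val) (M₂ := N.val)
    { app := fun W => AddCommGrpCat.ofHom
        (AddMonoidHom.mk' (fun t : Γ(M, W.unop) => β W.unop t) (hadd W.unop))
      naturality := fun W W' i => by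
        ext t
        exact hnat i.unop.le t }
    (fun W r t => hlin W.unop r t)⟩, fun U t => ?_⟩
  have h := hβ U.1 t U le_rfl
  rw [AmpleLib.res_refl, AmpleLib.res_refl] at h
  exact h

end WedgeLib

end
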