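import Groth.Agent.WedgeLib.Glue
import Groth.Agent.CohCmpLib.FrameTools
import Groth.Agent.GrassLib.SchExtPow
import Groth.Agent.HopfIneqLib.Sections
import Groth.Agent.QCohLib.Coherent
import Groth.Agent.KFlatLib.StalkTensor

/-!
# Tools for filtrations of exterior powers
-/

set_option autoImplicit false
set_option linter.style.haveILetI false
set_option maxHeartbeats 1000000
set_option backward.isDefEq.respectTransparency false
set_option backward.isDefEq.respectTransparency.types false
universe u

open CategoryTheory CategoryTheory.Limits TopologicalSpace Opposite AlgebraicGeometry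
open AmpleLib (res res_res res_smul shT)
open ProjFormLib (IsFrame ger)
open scoped TensorProduct

noncomputable section

namespace WedgeLib

variable {X : Scheme.{u}}

/-- Sections agree if they agree on a basis. -/
theorem ext_on {M : X.Modules} (P : X.affineOpens → Prop)
    (hP : ∀ (W : X.Opens) (x : X), x ∈ W → ∃ A : X.affineOpens, P A ∧ x ∈ A.1 ∧ A.1 ≤ W)
    {W : X.Opens} (s s' : Γ(M, W))
    (h : ∀ (V : X.affineOpens), P V → ∀ hV : V.1 ≤ W, res M hV s = res M hV s') : s = s' := by
  choose A hA hxA hAW using fun x : W => hP W x.1 x.2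
  exact TopCat.Sheaf.eq_of_locally_eq' (⟨M.presheaf, M.isSheaf⟩ : TopCat.Sheaf AddCommGrpCat _)
    (fun x => (A x).1) W (fun x => homOfLE (hAW x)) (fun x hx => Opens.mem_iSup.2 ⟨⟨x, hx⟩, hxA _⟩) s s'
    fun x => h (A x) (hA x) (hAW x)

/-- **A compatible family of linear maps over a basis of affine opens is a morphism.** -/
theorem exists_hom_on {M N : X.Modules} (P : X.affineOpens → Prop)
    (hP : ∀ (W : X.Opens) (x : X), x ∈ W → ∃ A : X.affineOpens, P A ∧ x ∈ A.1 ∧ A.1 ≤ W)
    (f : ∀ U : X.affineOpens, P U → (Γ(M, U.1) →ₗ[Γ(X, U.1)] Γ(N, U.1)))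
    (hf : ∀ (U V : X.affineOpens) (hU : P U) (hV : P V) (h : V.1 ≤ U.1) (t : Γ(M, U.1)),
      res N h (f U hU t) = f V hV (res M h t)) :
    ∃ φ : M ⟶ N, ∀ (U : X.affineOpens) (hU : P U) (t : Γ(M, U.1)), φ.app U.1 t = f U hU t := by
  let IsIm : ∀ {W : X.Opens}, Γ(M, W) → Γ(N, W) → Prop := fun {W} t s =>
    ∀ (V : X.affineOpens) (hV : P V) (h : V.1 ≤ W), res N h s = f V hV (res M h t)
  have uniq : ∀ {W : X.Opens} (t : Γ(M, W)) (s s' : Γ(N, W)), IsIm t s → IsIm t s' → s = s' :=
    fun t s s' hs hs' => ext_on P hP s s' fun V hV h => (hs V hV h).trans (hs' V hV h).symm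
  have ex : ∀ (W : X.Opens) (t : Γ(M, W)), ∃ s : Γ(N, W), IsIm t s := by
    intro W t
    choose V hV hxV hVW using fun x : W => hP W x.1 x.2
    obtain ⟨s, hs, -⟩ := TopCat.Sheaf.existsUnique_gluing' (⟨N.presheaf, N.isSheaf⟩ : TopCat.Sheaf AddCommGrpCat _)
      (fun x => (V x).1) W (fun x => homOfLE (hVW x)) (fun x hx => Opens.mem_iSup.2 ⟨⟨x, hx⟩, hxV _⟩)
      (fun x => f (V x) (hV x) (res M (hVW x) t)) (fun x y => by
        refine ext_on P hP (W := (V x).1 ⊓ (V y).1) _ _ fun A hA h => ?_
        change res N h (res N (inf_le_left : (V x).1 ⊓ (V y).1 ≤ (V x).1) _) =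
          res N h (res N (inf_le_right : (V x).1 ⊓ (V y).1 ≤ (V y).1) _)
        rw [res_res, res_res, hf (V x) A (hV x) hA (h.trans inf_le_left), hf (V y) A (hV y) hA (h.trans inf_le_right),
          res_res, res_res])
    refine ⟨s, fun A hA hAW => ?_⟩
    choose B hB hxB hBle using fun x : A.1 => hP (A.1 ⊓ (V ⟨x.1, hAW x.2⟩).1) x.1 ⟨x.2, hxV _⟩
    refine TopCat.Sheaf.eq_of_locally_eq' (⟨N.presheaf, N.isSheaf⟩ : TopCat.Sheaf AddCommGrpCat _)
      (fun x => (B x).1) A.1 (fun x => homOfLE ((hBle x).trans inf_le_left))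
      (fun x hx => Opens.mem_iSup.2 ⟨⟨x, hx⟩, hxB _⟩) _ _ fun x => ?_
    have h1 : res N (hVW ⟨x.1, hAW x.2⟩) s = f _ (hV _) (res M (hVW ⟨x.1, hAW x.2⟩) t) := hs ⟨x.1, hAW x.2⟩
    have h2 := congrArg (res N ((hBle x).trans inf_le_right)) h1
    rw [res_res, hf _ (B x) (hV _) (hB x) ((hBle x).trans inf_le_right), res_res] at h2
    change res N ((hBle x).trans inf_le_left) (res N hAW s) = res N ((hBle x).trans inf_le_left) (f A hA _)
    rw [res_res, hf A (B x) hA (hB x) ((hBle x).trans inf_le_left), res_res]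
    exact h2
  choose β hβ using ex
  have hadd : ∀ (W : X.Opens) (t t' : Γ(M, W)), β W (t + t') = β W t + β W t' := fun W t t' =>
    uniq _ _ _ (hβ W _) fun V hV h => by
      change N.presheaf.map (homOfLE h).op (β W t + β W t') = f V hV (M.presheaf.map (homOfLE h).op (t + t'))
      rw [map_add, map_add, map_add]
      exact congr_arg₂ (· + ·) (hβ W t V hV h) (hβ W t' V hV h)
  have hlin : ∀ (W : X.Opens) (r : Γ(X, W)) (t : Γ(M, W)), β W (r • t) = r • β W t := fun W r t =>
    uniq _ _ _ (hβ W _) fun V hV h => by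
      rw [res_smul, res_smul, map_smul, hβ W t V hV h]
  have hnat : ∀ {W W' : X.Opens} (h : W' ≤ W) (t : Γ(M, W)), β W' (res M h t) = res N h (β W t) :=
    fun {W W'} h t => uniq _ _ _ (hβ W' _) fun V hV hVW => by
      rw [res_res, res_res]
      exact hβ W t V hV (hVW.trans h)
  refine ⟨⟨PresheafOfModules.homMk (M₁ := M.val) (M₂ := N.val)
    { app := fun W => AddCommGrpCat.ofHom
        (AddMonoidHom.mk' (fun t : Γ(M, W.unop) => β W.unop t) (hadd W.unop))
      naturality := fun W W' i => by
        ext t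
        exact hnat i.unop.le t }
    (fun W r t => hlin W.unop r t)⟩, fun U hU t => ?_⟩
  have h := hβ U.1 t U hU le_rfl
  rw [AmpleLib.res_refl, AmpleLib.res_refl] at h
  exact h

/-- The product of sections, bilinearly. -/
def shTBil (M N : X.Modules) (W : X.Opens) :
    Γ(M, W) →ₗ[Γ(X, W)] Γ(N, W) →ₗ[Γ(X, W)] Γ(CohB1.tensorMod M N, W) :=
  LinearMap.mk₂ _ (fun m n => shT m n) (fun m m' n => HopfIneqLib.shT_add_left m m' n)
    (fun r m n => by simpa using AmpleLib.shT_smul r 1 m n)
    (fun m n n' => HopfIneqLib.shT_add_right m n n') (fun r m n => by simpa using AmpleLib.shT_smul 1 r m n)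

/-- The products of two frames form a frame. -/
theorem isFrame_shT {M N : X.Modules} {U : X.Opens} {a c : ℕ} {e : Fin a → Γ(M, U)} {d : Fin c → Γ(N, U)}
    (he : IsFrame M e) (hd : IsFrame N d) :
    IsFrame (CohB1.tensorMod M N)
      (fun p => shT (e (finProdFinEquiv.symm p).1) (d (finProdFinEquiv.symm p).2)) := by
  intro y hy
  let R := X.presheaf.stalk y
  let E : M.presheaf.stalk y ⊗[R] N.presheaf.stalk y ≃ₗ[R] (KFlatLib.tens M N).presheaf.stalk y :=
    LinearEquiv.ofBijective (KFlatLib.stalkTensorLin M N y) (KFlatLib.stalkTensorLin_bijective M N y)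
  let B := (((he.basis y hy).tensorProduct (hd.basis y hy)).map E).reindex finProdFinEquiv
  have hB : ∀ p, B p = ger (CohB1.tensorMod M N) y hy
      (shT (e (finProdFinEquiv.symm p).1) (d (finProdFinEquiv.symm p).2)) := fun p => by
    rw [Module.Basis.reindex_apply, Module.Basis.map_apply, Module.Basis.tensorProduct_apply',
      he.basis_apply, hd.basis_apply]
    exact KFlatLib.stalkTensorLin_germ M N y hy _ _
  have hC : ⇑(Fintype.linearCombination R fun p => ger (CohB1.tensorMod M N) y hy
      (shT (e (finProdFinEquiv.symm p).1) (d (finProdFinEquiv.symm p).2))) = B.equivFun.symm :=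
    funext fun v => by
      rw [Fintype.linearCombination_apply, Module.Basis.equivFun_symm_apply]
      exact Finset.sum_congr rfl fun p _ => congrArg (_ • ·) (hB p).symm
  exact Eq.mpr (congrArg Function.Bijective hC) B.equivFun.symm.bijective

/-- The basis of the sections given by a frame. -/
def frameBasis {M : X.Modules} {U : X.Opens} {a : ℕ} {e : Fin a → Γ(M, U)} (he : IsFrame M e) {W : X.Opens}
    (hW : W ≤ U) : Module.Basis (Fin a) Γ(X, W) Γ(M, W) :=
  Module.Basis.ofEquivFun (LinearEquiv.ofBijective (Fintype.linearCombination Γ(X, W) (M := Γ(M, W))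
    fun i => res M hW (e i)) (GrassSch.bijective_comb_open he hW)).symm

theorem frameBasis_apply {M : X.Modules} {U : X.Opens} {a : ℕ} {e : Fin a → Γ(M, U)} (he : IsFrame M e) {W : X.Opens}
    (hW : W ≤ U) (i : Fin a) : frameBasis he hW i = res M hW (e i) := by
  simp only [frameBasis, Module.Basis.coe_ofEquivFun, LinearEquiv.symm_symm]
  exact (Fintype.linearCombination_apply_single _ _ _ _).trans (one_smul _ _)

/-- **Sections of a tensor product of free modules.** -/
theorem lift_shT_bijective {M N : X.Modules} {U : X.Opens} {a c : ℕ} {e : Fin a → Γ(M, U)} {d : Fin c → Γ(N, U)}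
    (he : IsFrame M e) (hd : IsFrame N d) {W : X.Opens} (hW : W ≤ U) :
    Function.Bijective (TensorProduct.lift (shTBil M N W)) := by
  let B := ((frameBasis he hW).tensorProduct (frameBasis hd hW)).reindex finProdFinEquiv
  let C := frameBasis (isFrame_shT he hd) hW
  have h : TensorProduct.lift (shTBil M N W) = (B.equiv C (Equiv.refl _)).toLinearMap := B.ext fun p => by
    refine Eq.trans ?_ (Module.Basis.equiv_apply B p C (Equiv.refl _)).symm
    rw [Module.Basis.reindex_apply, Module.Basis.tensorProduct_apply', TensorProduct.lift.tmul,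
      frameBasis_apply, frameBasis_apply]
    refine Eq.trans ?_ (frameBasis_apply (isFrame_shT he hd) hW p).symm
    exact (AmpleLib.shT_res hW _ _).symm
  rw [h]
  exact (B.equiv C (Equiv.refl _)).bijective

end WedgeLib

end
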