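import Groth.Agent.WedgeLib.Filt
import Groth.Agent.WedgeLib.FiltTools
import Groth.Agent.QCohLib.SerreCrit
import Groth.Agent.QCohLib.Vanishing
import Groth.Agent.FinLFAnnLib.Main
import Groth.Agent.CohCmpLib.Eps
import Groth.Prelude.Def_KZero

/-!
# The filtration of an exterior power of an extension of locally free modules
-/

set_option autoImplicit false
set_option linter.style.haveILetI false
set_option linter.unusedSectionVars false
set_option maxHeartbeats 2000000
set_option backward.isDefEq.respectTransparency false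
set_option backward.isDefEq.respectTransparency.types false
universe u

open CategoryTheory CategoryTheory.Limits TopologicalSpace Opposite AlgebraicGeometry
open AmpleLib (res res_res res_smul shT)
open ProjFormLib (IsFrame)
open scoped TensorProduct

noncomputable section

namespace WedgeLib

variable {X : Scheme.{u}}

/-- The sections as a module. -/
abbrev Sec (E : X.Modules) (U : X.Opens) : Type u := ↥(E.val.obj (op U))

/-- The exterior powers of the sections. -/
abbrev ExtSec (k : ℕ) (E : X.Modules) (U : X.Opens) : Type u := ↥(⋀[Γ(X, U)]^k (Sec E U))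

/-- An exterior power, with its identifications. -/
structure ExtData (k : ℕ) (E M : X.Modules) where
  φ : ∀ U : X.affineOpens, (M.val.obj (op U.1)) ≃ₗ[Γ(X, U.1)] ExtSec k E U.1
  nat : ∀ (U V : X.affineOpens) (h : V.1 ≤ U.1) (e : Fin k → E.val.obj (op U.1)),
    M.val.map (homOfLE h).op ((φ U).symm (exteriorPower.ιMulti _ k e)) =
      (φ V).symm (exteriorPower.ιMulti _ k (fun j => E.val.map (homOfLE h).op (e j)))

/-- Restriction of sections, semilinearly. -/
def rS (M : X.Modules) {U V : X.Opens} (h : V ≤ U) :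
    Sec M U →ₛₗ[(X.presheaf.map (homOfLE h).op).hom] Sec M V where
  toFun s := res M h s
  map_add' s t := map_add (M.presheaf.map (homOfLE h).op).hom s t
  map_smul' c s := AmpleLib.res_smul M h c s

/-- Restriction of exterior powers. -/
def ExtData.r {k : ℕ} {E M : X.Modules} (D : ExtData k E M) {U V : X.affineOpens} (h : V.1 ≤ U.1) :
    ExtSec k E U.1 →ₛₗ[(X.presheaf.map (homOfLE h).op).hom] ExtSec k E V.1 :=
  ((D.φ V).toLinearMap.comp (rS M h)).comp (D.φ U).symm.toLinearMap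

theorem ExtData.r_ιMulti {k : ℕ} {E M : X.Modules} (D : ExtData k E M) {U V : X.affineOpens} (h : V.1 ≤ U.1)
    (v : Fin k → Sec E U.1) :
    D.r h (exteriorPower.ιMulti _ k v) = exteriorPower.ιMulti _ k (fun j => rS E h (v j)) :=
  (congrArg (D.φ V) (D.nat U V h v)).trans ((D.φ V).apply_symm_apply _)

theorem ExtData.φ_res {k : ℕ} {E M : X.Modules} (D : ExtData k E M) {U V : X.affineOpens} (h : V.1 ≤ U.1)
    (s : Sec M U.1) : D.φ V (rS M h s) = D.r h (D.φ U s) := by
  show D.φ V (rS M h s) = D.φ V (rS M h ((D.φ U).symm (D.φ U s)))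
  rw [LinearEquiv.symm_apply_apply]

variable {S : ShortComplex X.Modules} {L' L L'' : ℕ → X.Modules} (n : ℕ)
  (D' : ∀ i, ExtData i S.X₁ (L' i)) (D : ∀ i, ExtData i S.X₂ (L i)) (D'' : ∀ i, ExtData i S.X₃ (L'' i))

variable (S L' L'') in
/-- The affine opens with enough frames. -/
def Good (U : X.affineOpens) : Prop :=
  (∃ (a : ℕ) (e : Fin a → Γ(S.X₃, U.1)), IsFrame S.X₃ e) ∧
    ∀ j : Fin (n + 1), (∃ (a : ℕ) (e : Fin a → Γ(L' j, U.1)), IsFrame (L' j) e) ∧
      ∃ (a : ℕ) (e : Fin a → Γ(L'' j, U.1)), IsFrame (L'' j) e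

theorem Good.mono {U V : X.affineOpens} (hU : Good S L' L'' n U) (h : V.1 ≤ U.1) : Good S L' L'' n V := by
  obtain ⟨⟨a, e, he⟩, hj⟩ := hU
  refine ⟨⟨a, _, he.res h⟩, fun j => ?_⟩
  obtain ⟨⟨b, d, hd⟩, c, g, hg⟩ := hj j
  exact ⟨⟨b, _, hd.res h⟩, c, _, hg.res h⟩

variable (hS : S.ShortExact) (h₁ : FlatMod.IsFinLocFree S.X₁) (h₃ : FlatMod.IsFinLocFree S.X₃)
  (hL' : ∀ i, FlatMod.IsFinLocFree (L' i)) (hL'' : ∀ i, FlatMod.IsFinLocFree (L'' i))

include h₃ hL' hL'' in
theorem exists_good (W : X.Opens) (x : X) (hx : x ∈ W) :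
    ∃ A : X.affineOpens, Good S L' L'' n A ∧ x ∈ A.1 ∧ A.1 ≤ W := by
  obtain ⟨U₀, a, e, hx₀, he⟩ := ProjFormLib.exists_frame h₃ x
  choose U' a' e' hx' he' using fun j : Fin (n + 1) => ProjFormLib.exists_frame (hL' j) x
  choose U'' a'' e'' hx'' he'' using fun j : Fin (n + 1) => ProjFormLib.exists_frame (hL'' j) x
  let O : X.Opens := ⟨(W : Set X) ∩ (U₀ : Set X) ∩ ⋂ j, ((U' j : Set X) ∩ (U'' j : Set X)),
    (W.isOpen.inter U₀.isOpen).inter (isOpen_iInter_of_finite fun j => (U' j).isOpen.inter (U'' j).isOpen)⟩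
  obtain ⟨A, hA, hxA, hle⟩ := exists_isAffineOpen_mem_and_subset (X := X) (x := x) (U := O)
    ⟨⟨hx, hx₀⟩, Set.mem_iInter.2 fun j => ⟨hx' j, hx'' j⟩⟩
  exact ⟨⟨A, hA⟩, ⟨⟨a, _, he.res fun z hz => (hle hz).1.2⟩, fun j =>
    ⟨⟨a' j, _, (he' j).res fun z hz => (Set.mem_iInter.1 (hle hz).2 j).1⟩,
      a'' j, _, (he'' j).res fun z hz => (Set.mem_iInter.1 (hle hz).2 j).2⟩⟩, hxA, fun z hz => (hle hz).1.1⟩

/-- The maps on sections. -/
def fMap (U : X.Opens) : Sec S.X₁ U →ₗ[Γ(X, U)] Sec S.X₂ U := QCohLib.appLin S.f U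

/-- The maps on sections. -/
def gMap (U : X.Opens) : Sec S.X₂ U →ₗ[Γ(X, U)] Sec S.X₃ U := QCohLib.appLin S.g U

include hS h₁ in
theorem split_data (U : X.affineOpens) (hU : Good S L' L'' n U) :
    Function.Injective (fMap (S := S) U.1) ∧
      LinearMap.range (fMap (S := S) U.1) = LinearMap.ker (gMap (S := S) U.1) ∧
      ∃ s : Sec S.X₃ U.1 →ₗ[Γ(X, U.1)] Sec S.X₂ U.1, ∀ y, gMap U.1 (s y) = y := by
  haveI := hS.mono_f
  haveI : Coh.IsQCoh S.X₁ := FinLFAnn.isQCoh_of_isFinLocFree h₁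
  refine ⟨QCohLib.app_injective_of_mono S.f U.1, le_antisymm ?_ ?_, ?_⟩
  · rintro _ ⟨x, rfl⟩
    show S.g.app U.1 (S.f.app U.1 x) = 0
    have h := congr($(S.zero).app U.1 x)
    exact h
  · exact fun x hx => QCohLib.exists_of_app_eq_zero hS.exact inferInstance x hx
  · obtain ⟨⟨a, e, he⟩, -⟩ := hU
    haveI : Module.Projective Γ(X, U.1) (Sec S.X₃ U.1) :=
      Module.Projective.of_basis (frameBasis he le_rfl)
    obtain ⟨s, hs⟩ := Module.projective_lifting_property (gMap (S := S) U.1) LinearMap.id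
      (QCohLib.app_surjective_of_affine hS U.2)
    exact ⟨s, fun y => LinearMap.congr_fun hs y⟩

/-- The graded piece. -/
abbrev T (i : ℕ) : X.Modules := CohB1.tensorMod (L' i) (L'' (n - i))

/-- The comparison with the sections of the graded piece. -/
def nu (i : ℕ) (U : X.affineOpens) :
    ExtSec i S.X₁ U.1 ⊗[Γ(X, U.1)] ExtSec (n - i) S.X₃ U.1 →ₗ[Γ(X, U.1)] Γ(T (L' := L') (L'' := L'') n i, U.1) :=
  (TensorProduct.lift (shTBil (L' i) (L'' (n - i)) U.1)).comp
    (TensorProduct.congr ((D' i).φ U).symm ((D'' (n - i)).φ U).symm).toLinearMap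

theorem nu_bijective {i : ℕ} (hi : i ≤ n) (U : X.affineOpens) (hU : Good S L' L'' n U) :
    Function.Bijective (nu n D' D'' i U) := by
  obtain ⟨a, e, he⟩ := (hU.2 ⟨i, Nat.lt_succ_of_le hi⟩).1
  obtain ⟨c, d, hd⟩ := (hU.2 ⟨n - i, Nat.lt_succ_of_le (Nat.sub_le n i)⟩).2
  exact (lift_shT_bijective he hd le_rfl).comp
    (TensorProduct.congr ((D' i).φ U).symm ((D'' (n - i)).φ U).symm).bijective

theorem res_nu (i : ℕ) {U V : X.affineOpens} (h : V.1 ≤ U.1) (a : ExtSec i S.X₁ U.1) (b : ExtSec (n - i) S.X₃ U.1) :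
    rS (T (L' := L') (L'' := L'') n i) h (nu n D' D'' i U (a ⊗ₜ b)) =
      nu n D' D'' i V ((D' i).r h a ⊗ₜ (D'' (n - i)).r h b) := by
  show res _ h (shT (((D' i).φ U).symm a) (((D'' (n - i)).φ U).symm b)) =
    shT (((D' i).φ V).symm ((D' i).r h a)) (((D'' (n - i)).φ V).symm ((D'' (n - i)).r h b))
  refine (AmpleLib.shT_res h _ _).trans (congrArg₂ shT ?_ ?_)
  · exact (((D' i).φ V).symm_apply_apply _).symm
  · exact (((D'' (n - i)).φ V).symm_apply_apply _).symm

/-- A submodule realising a step of the filtration. -/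
structure Step (i : ℕ) where
  F : X.Modules
  ι : F ⟶ L n
  mono : Mono ι
  range_eq : ∀ U : X.affineOpens, Good S L' L'' n U → ∀ t : Γ(L n, U.1),
    (∃ s, ι.app U.1 s = t) ↔ (D n).φ U t ∈ fil (fMap (S := S) U.1) n i

include hS h₁ in
/-- The beginning of the filtration. -/
theorem exists_step_zero : ∃ σ : Step (L' := L') (L'' := L'') n D 0, σ.F = L n :=
  ⟨⟨L n, 𝟙 _, inferInstance, fun U hU t => iff_of_true ⟨t, rfl⟩ (by
    obtain ⟨hf, hex, s, hs⟩ := split_data n hS h₁ U hU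
    rw [fil_zero (fMap (S := S) U.1) (gMap (S := S) U.1) hf hex s hs n]
    exact Submodule.mem_top)⟩, rfl⟩

/-- A section of a step, in the filtration. -/
def Step.inF {i : ℕ} (σ : Step (L' := L') (L'' := L'') n D i) (U : X.affineOpens) (hU : Good S L' L'' n U) :
    Sec σ.F U.1 →ₗ[Γ(X, U.1)] ↥(fil (fMap (S := S) U.1) n i) :=
  ((((D n).φ U).toLinearMap).comp (QCohLib.appLin σ.ι U.1)).codRestrict _
    fun x => (σ.range_eq U hU _).1 ⟨x, rfl⟩

theorem Step.coe_inF {i : ℕ} (σ : Step (L' := L') (L'' := L'') n D i) (U : X.affineOpens) (hU : Good S L' L'' n U)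
    (x : Sec σ.F U.1) : (σ.inF n D U hU x).1 = (D n).φ U (σ.ι.app U.1 x) := rfl

theorem inF_res {i : ℕ} (σ : Step (L' := L') (L'' := L'') n D i) {U V : X.affineOpens} (hU : Good S L' L'' n U)
    (hV : Good S L' L'' n V) (h : V.1 ≤ U.1) (x : Sec σ.F U.1) :
    (D n).r h (σ.inF n D U hU x).1 = (σ.inF n D V hV (rS σ.F h x)).1 := by
  rw [Step.coe_inF, Step.coe_inF, ← ExtData.φ_res]
  exact congrArg ((D n).φ V) (QCohLib.app_map σ.ι (homOfLE h) x).symm

/-- Naturality of the graded pieces on good opens. -/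
theorem gA_res {i : ℕ} (hi : i ≤ n) {U V : X.affineOpens} (h : V.1 ≤ U.1)
    (gU : ↥(fil (fMap (S := S) U.1) n i) →ₗ[Γ(X, U.1)] ExtSec i S.X₁ U.1 ⊗[Γ(X, U.1)] ExtSec (n - i) S.X₃ U.1)
    (hgU : ∀ (a : ExtSec i S.X₁ U.1) (m : ExtSec (n - i) S.X₂ U.1)
      (hm : wedgeMul (Nat.add_sub_cancel' hi) (exteriorPower.map i (fMap (S := S) U.1) a) m ∈
        fil (fMap (S := S) U.1) n i),
      gU ⟨_, hm⟩ = a ⊗ₜ exteriorPower.map (n - i) (gMap (S := S) U.1) m)
    (gV : ↥(fil (fMap (S := S) V.1) n i) →ₗ[Γ(X, V.1)] ExtSec i S.X₁ V.1 ⊗[Γ(X, V.1)] ExtSec (n - i) S.X₃ V.1)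
    (hgV : ∀ (a : ExtSec i S.X₁ V.1) (m : ExtSec (n - i) S.X₂ V.1)
      (hm : wedgeMul (Nat.add_sub_cancel' hi) (exteriorPower.map i (fMap (S := S) V.1) a) m ∈
        fil (fMap (S := S) V.1) n i),
      gV ⟨_, hm⟩ = a ⊗ₜ exteriorPower.map (n - i) (gMap (S := S) V.1) m)
    (z : ↥(fil (fMap (S := S) U.1) n i)) :
    ∃ hm : (D n).r h z.1 ∈ fil (fMap (S := S) V.1) n i,
      rS (T (L' := L') (L'' := L'') n i) h (nu n D' D'' i U (gU z)) = nu n D' D'' i V (gV ⟨_, hm⟩) :=
  gr_natural (σ := (X.presheaf.map (homOfLE h).op).hom) (fMap (S := S) U.1) (gMap (S := S) U.1)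
    (fMap (S := S) V.1) (gMap (S := S) V.1) (rS S.X₁ h) (rS S.X₂ h) (rS S.X₃ h)
    (fun x => (QCohLib.app_map S.f (homOfLE h) x).symm) (fun x => (QCohLib.app_map S.g (homOfLE h) x).symm)
    hi ((D' i).r h) ((D' i).r_ιMulti h) ((D'' (n - i)).r h) ((D'' (n - i)).r_ιMulti h)
    ((D (n - i)).r h) ((D (n - i)).r_ιMulti h) ((D n).r h) ((D n).r_ιMulti h)
    gU hgU gV hgV (rS (T (L' := L') (L'' := L'') n i) h) (nu n D' D'' i U) (nu n D' D'' i V)
    (res_nu n D' D'' i h) z

include D' D'' hS h₁ h₃ hL' hL'' in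
/-- **The next step of the filtration.** -/
theorem exists_next {i : ℕ} (hi : i ≤ n) (σ : Step (L' := L') (L'' := L'') n D i) :
    ∃ (τ : Step (L' := L') (L'' := L'') n D (i + 1)) (k : τ.F ⟶ σ.F) (g : σ.F ⟶ T (L' := L') (L'' := L'') n i)
      (w : k ≫ g = 0), (ShortComplex.mk k g w).ShortExact ∧
      ∀ U : X.affineOpens, Good S L' L'' n U → Function.Surjective (g.app U.1) := by
  classical
  haveI := σ.mono
  have hd := fun U hU => split_data (L' := L') (L'' := L'') n hS h₁ U hU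
  choose hf hex s hs using hd
  choose gA hgA hgs hgk hle using fun (U : X.affineOpens) (hU : Good S L' L'' n U) =>
    exists_gr (fMap (S := S) U.1) (gMap (S := S) U.1) (hf U hU) (hex U hU) (s U hU) (hs U hU) n i hi
  let inF := fun (U : X.affineOpens) (hU : Good S L' L'' n U) => σ.inF n D U hU
  have inF_surj : ∀ U hU, Function.Surjective (inF U hU) := fun U hU z => by
    obtain ⟨x, hx⟩ := (σ.range_eq U hU (((D n).φ U).symm z.1)).2 (by
      rw [LinearEquiv.apply_symm_apply]; exact z.2)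
    exact ⟨x, Subtype.ext ((congrArg _ hx).trans (((D n).φ U).apply_symm_apply _))⟩
  let ĝ : ∀ U : X.affineOpens, Good S L' L'' n U →
      (Γ(σ.F, U.1) →ₗ[Γ(X, U.1)] Γ(T (L' := L') (L'' := L'') n i, U.1)) := fun U hU =>
    ((nu n D' D'' i U).comp (gA U hU)).comp (inF U hU)
  obtain ⟨g, hg⟩ := exists_hom_on (Good S L' L'' n) (exists_good n h₃ hL' hL'') ĝ
    fun U V hU hV h t => by
      obtain ⟨hm, he⟩ := gA_res n D' D D'' hi h (gA U hU) (hgA U hU) (gA V hV) (hgA V hV) (σ.inF n D U hU t)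
      refine he.trans ?_
      exact congrArg (fun z => nu n D' D'' i V (gA V hV z)) (Subtype.ext (inF_res n D σ hU hV h t))
  have hg0 : ∀ (U : X.affineOpens) (hU : Good S L' L'' n U) (x : Γ(σ.F, U.1)),
      g.app U.1 x = 0 ↔ (D n).φ U (σ.ι.app U.1 x) ∈ fil (fMap (S := S) U.1) n (i + 1) := fun U hU x => by
    rw [hg U hU x]
    exact (map_eq_zero_iff _ (nu_bijective n D' D'' hi U hU).1).trans (hgk U hU (inF U hU x))
  have hsurj : ∀ U : X.affineOpens, Good S L' L'' n U → Function.Surjective (g.app U.1) := fun U hU y => by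
    obtain ⟨x, hx⟩ := ((nu_bijective n D' D'' hi U hU).2.comp ((hgs U hU).comp (inF_surj U hU))) y
    exact ⟨x, (hg U hU x).trans hx⟩
  haveI : Epi g := QCohLib.epi_of_surjective_on_affines g fun V y p hp => by
    obtain ⟨A, hA, hpA, hAV⟩ := exists_good n h₃ hL' hL'' V p hp
    exact ⟨A.1, hAV, hpA, hsurj A hA _⟩
  refine ⟨⟨kernel g, kernel.ι g ≫ σ.ι, mono_comp _ _, fun U hU t => ⟨?_, fun ht => ?_⟩⟩, kernel.ι g, g,
    kernel.condition g, ?_, hsurj⟩
  · rintro ⟨x, rfl⟩
    refine (hg0 U hU ((kernel.ι g).app U.1 x)).1 ?_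
    exact congr($(kernel.condition g).app U.1 x)
  · obtain ⟨x, rfl⟩ := (σ.range_eq U hU t).2 (hle U hU ht)
    obtain ⟨y, rfl⟩ := CohCmpLib.exists_lift_kernel g x ((hg0 U hU x).2 ht)
    exact ⟨y, rfl⟩
  · exact { exact := ShortComplex.exact_of_f_is_kernel _ (kernelIsKernel g)
            mono_f := inferInstanceAs (Mono (kernel.ι g))
            epi_g := inferInstanceAs (Epi g) }

/-- An extension of framed modules is framed. -/
theorem exists_frame_ext {F' F T' : X.Modules} (k : F' ⟶ F) (g : F ⟶ T') (w : k ≫ g = 0)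
    (hk : (ShortComplex.mk k g w).ShortExact) (U : X.affineOpens)
    (hsurj : ∀ W : X.affineOpens, W.1 ≤ U.1 → Function.Surjective (g.app W.1))
    {a : ℕ} {e : Fin a → Γ(F', U.1)} (he : IsFrame F' e) {c : ℕ} {d : Fin c → Γ(T', U.1)} (hd : IsFrame T' d) :
    ∃ (m : ℕ) (f : Fin m → Γ(F, U.1)), IsFrame F f := by
  haveI := hk.mono_f
  choose d' hd' using fun j => hsurj U le_rfl (d j)
  let f : Fin (a + c) → Γ(F, U.1) := Fin.append (fun i => k.app U.1 (e i)) d'
  refine ⟨a + c, f, GrassSch.isFrame_of_bijective fun W hW => ?_⟩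
  have hbk := GrassSch.bijective_comb_open he hW
  have hbd := GrassSch.bijective_comb_open hd hW
  have hcomp : ∀ x : Γ(F', W.1), g.app W.1 (k.app W.1 x) = 0 := fun x => congr($(w).app W.1 x)
  have hsum : ∀ v : Fin (a + c) → Γ(X, W.1),
      Fintype.linearCombination Γ(X, W.1) (fun i => res F hW (f i)) v =
        k.app W.1 (Fintype.linearCombination Γ(X, W.1) (fun i => res F' hW (e i)) (fun i => v (Fin.castAdd c i))) +
          ∑ j, v (Fin.natAdd a j) • res F hW (d' j) := fun v => by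
    rw [Fintype.linearCombination_apply, Fin.sum_univ_add, Fintype.linearCombination_apply, map_sum]
    refine congr_arg₂ (· + ·) (Finset.sum_congr rfl fun i _ => ?_) (Finset.sum_congr rfl fun j _ => by
      simp only [f, Fin.append_right])
    simp only [f, Fin.append_left]
    exact ((QCohLib.app_smul k W.1 _ _).trans (congrArg (_ • ·) (QCohLib.app_map k (homOfLE hW) (e i)))).symm
  have hg : ∀ v : Fin (a + c) → Γ(X, W.1),
      g.app W.1 (Fintype.linearCombination Γ(X, W.1) (fun i => res F hW (f i)) v) =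
        Fintype.linearCombination Γ(X, W.1) (fun j => res T' hW (d j)) (fun j => v (Fin.natAdd a j)) := fun v => by
    rw [hsum, map_add, hcomp, zero_add, map_sum, Fintype.linearCombination_apply]
    refine Finset.sum_congr rfl fun j _ => (QCohLib.app_smul g W.1 _ _).trans (congrArg (_ • ·) ?_)
    exact (QCohLib.app_map g (homOfLE hW) (d' j)).trans (congrArg _ (hd' j))
  refine ⟨(injective_iff_map_eq_zero _).2 fun v hv => ?_, fun x => ?_⟩
  · have h1 : (fun j => v (Fin.natAdd a j)) = 0 := hbd.1 (by rw [← hg, hv, map_zero, map_zero])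
    have h2 : (fun i => v (Fin.castAdd c i)) = 0 := hbk.1 (by
      refine QCohLib.app_injective_of_mono k W.1 ?_
      rw [map_zero, map_zero, ← hv, hsum, Finset.sum_eq_zero fun j _ => ?_, add_zero]
      rw [show v (Fin.natAdd a j) = 0 from congrFun h1 j, zero_smul])
    funext i
    exact Fin.addCases (congrFun h2) (congrFun h1) i
  · obtain ⟨y, hy⟩ := hbd.2 (g.app W.1 x)
    obtain ⟨x', hx'⟩ := QCohLib.exists_of_app_eq_zero hk.exact inferInstance (U := W.1)
      (x - ∑ j, y j • res F hW (d' j)) (by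
        show g.app W.1 (x - ∑ j, y j • res F hW (d' j)) = 0
        have h0 := hg (Fin.append 0 y)
        rw [hsum] at h0
        simp only [Fin.append_left, Fin.append_right, map_add, hcomp, zero_add] at h0
        rw [map_sub, h0, hy, sub_self])
    obtain ⟨z, rfl⟩ := hbk.2 x'
    refine ⟨Fin.append z y, ?_⟩
    rw [hsum]
    simp only [Fin.append_left, Fin.append_right]
    exact eq_sub_iff_add_eq.1 hx'

/-- A relation in the Grothendieck group. -/
theorem clSub_middle {A : Type*} [Category A] [Abelian A] (P : ObjectProperty A) {S : ShortComplex A} (hS : S.ShortExact)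
    (h₁ : P S.X₁) (h₂ : P S.X₂) (h₃ : P S.X₃) :
    KZero.clSub P S.X₂ = KZero.clSub P S.X₁ + KZero.clSub P S.X₃ := by
  rw [KZero.clSub, KZero.clSub, KZero.clSub, dif_pos h₁, dif_pos h₂, dif_pos h₃]
  refine sub_eq_zero.1 ?_
  rw [← sub_sub, ← QuotientAddGroup.mk_sub, ← QuotientAddGroup.mk_sub, QuotientAddGroup.eq_zero_iff]
  exact AddSubgroup.subset_closure ⟨S, h₁, h₂, h₃, hS, rfl⟩

include D' D'' hS h₁ h₃ hL' hL'' in
/-- **The classes of the steps.** -/
theorem step_class : ∀ (d i : ℕ), i + d = n + 1 → ∀ σ : Step (L' := L') (L'' := L'') n D i,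
    ((∀ U : X.affineOpens, Good S L' L'' n U → ∃ (a : ℕ) (e : Fin a → Γ(σ.F, U.1)), IsFrame σ.F e) ∧
      KZero.clSub (fun M : X.Modules => FlatMod.IsFinLocFree M) σ.F = ∑ j ∈ Finset.Ico i (n + 1),
        KZero.clSub (fun M : X.Modules => FlatMod.IsFinLocFree M) (T (L' := L') (L'' := L'') n j)) := by
  intro d
  induction d with
  | zero =>
    intro i hi σ
    obtain rfl : i = n + 1 := by omega
    haveI := σ.mono
    have hz : ∀ (W : X.Opens) (s : Γ(σ.F, W)), s = 0 := fun W s =>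
      ext_on (Good S L' L'' n) (exists_good n h₃ hL' hL'') s 0 fun V hV hVW => by
        refine (?_ : _ = (0 : Γ(σ.F, V.1))).trans (map_zero (σ.F.presheaf.map (homOfLE hVW).op).hom).symm
        refine QCohLib.app_injective_of_mono σ.ι V.1 (Eq.trans ?_ (map_zero (σ.ι.app V.1).hom).symm)
        have h := (σ.range_eq V hV _).1 ⟨res σ.F hVW s, rfl⟩
        rw [fil, dif_neg (by omega), Submodule.mem_bot] at h
        exact ((D n).φ V).map_eq_zero_iff.1 h
    have hfr : ∀ U : X.Opens, ∃ (a : ℕ) (e : Fin a → Γ(σ.F, U)), IsFrame σ.F e := fun U =>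
      ⟨0, Fin.elim0, GrassSch.isFrame_of_bijective fun V _ =>
        ⟨fun a b _ => funext fun i => i.elim0, fun y => ⟨0, (map_zero _).trans (hz V.1 y).symm⟩⟩⟩
    have hP : FlatMod.IsFinLocFree σ.F := CohCmpLib.isFinLocFree_of_frames fun x => by
      obtain ⟨a, e, he⟩ := hfr ⊤
      exact ⟨⊤, a, e, trivial, he⟩
    refine ⟨fun U _ => hfr U.1, ?_⟩
    rw [Finset.Ico_self, Finset.sum_empty]
    have h0 : IsZero σ.F := (IsZero.iff_id_eq_zero _).2 (Scheme.Modules.hom_ext (𝟙 σ.F) 0 fun W => by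
      ext s
      exact (hz W _).trans (hz W _).symm)
    have hse : (ShortComplex.mk (𝟙 σ.F) (𝟙 σ.F) (h0.eq_of_src _ _)).ShortExact :=
      { exact := ShortComplex.exact_of_isZero_X₂ _ h0 }
    exact left_eq_add.1 (clSub_middle _ hse hP hP hP)
  | succ d ih =>
    intro i hi σ
    have hin : i ≤ n := by omega
    obtain ⟨τ, k, g, w, hse, hsurj⟩ := exists_next n D' D D'' hS h₁ h₃ hL' hL'' hin σ
    obtain ⟨hfr, hcl⟩ := ih (i + 1) (by omega) τ
    have hTfr : ∀ U : X.affineOpens, Good S L' L'' n U →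
        ∃ (a : ℕ) (e : Fin a → Γ(T (L' := L') (L'' := L'') n i, U.1)), IsFrame (T (L' := L') (L'' := L'') n i) e :=
      fun U hU => by
        obtain ⟨a, e, he⟩ := (hU.2 ⟨i, Nat.lt_succ_of_le hin⟩).1
        obtain ⟨c, d', hd⟩ := (hU.2 ⟨n - i, Nat.lt_succ_of_le (Nat.sub_le n i)⟩).2
        exact ⟨_, _, isFrame_shT he hd⟩
    have hfr' : ∀ U : X.affineOpens, Good S L' L'' n U → ∃ (a : ℕ) (e : Fin a → Γ(σ.F, U.1)), IsFrame σ.F e :=
      fun U hU => by
        obtain ⟨a, e, he⟩ := hfr U hU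
        obtain ⟨c, d', hd⟩ := hTfr U hU
        exact exists_frame_ext k g w hse U (fun W hW => hsurj W (hU.mono n hW)) he hd
    have lf : ∀ M : X.Modules, (∀ U : X.affineOpens, Good S L' L'' n U → ∃ (a : ℕ) (e : Fin a → Γ(M, U.1)), IsFrame M e) →
        FlatMod.IsFinLocFree M := fun M hM => CohCmpLib.isFinLocFree_of_frames fun x => by
      obtain ⟨A, hA, hxA, -⟩ := exists_good n h₃ hL' hL'' ⊤ x trivial
      obtain ⟨a, e, he⟩ := hM A hA
      exact ⟨A.1, a, e, hxA, he⟩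
    refine ⟨hfr', ?_⟩
    rw [clSub_middle _ hse (lf _ hfr) (lf _ hfr') (lf _ hTfr), hcl,
      Finset.sum_eq_sum_Ico_succ_bot (show i < n + 1 by omega), add_comm]

include D' D D'' hS h₁ h₃ hL' hL'' in
/-- **The class of an exterior power of an extension.** -/
theorem clSub_extPow :
    KZero.clSub (fun M : X.Modules => FlatMod.IsFinLocFree M) (L n) = ∑ j ∈ Finset.range (n + 1),
      KZero.clSub (fun M : X.Modules => FlatMod.IsFinLocFree M) (T (L' := L') (L'' := L'') n j) := by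
  obtain ⟨σ, hσ⟩ := exists_step_zero (L' := L') (L'' := L'') n D hS h₁
  rw [← hσ, Finset.range_eq_Ico]
  exact (step_class n D' D D'' hS h₁ h₃ hL' hL'' (n + 1) 0 (by omega) σ).2

end WedgeLib

end
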