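import Groth.Agent.WedgeLib.Alg
import Groth.Agent.WedgeLib.Glue
import Groth.Agent.GrassLib.SchExtPow
import Groth.Agent.HomCohLib.Coh
import Groth.Agent.GrTildeLib.IsoCrit
import Groth.Agent.SeesawLib.Ranks

/-!
# Complementary exterior powers of a locally free module
-/

set_option autoImplicit false
set_option maxHeartbeats 1000000
set_option linter.style.haveILetI false
set_option backward.isDefEq.respectTransparency false
set_option backward.isDefEq.respectTransparency.types false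
universe u

open CategoryTheory CategoryTheory.Limits TopologicalSpace Opposite AlgebraicGeometry
open CohCmpLib (homMod happ)

noncomputable section

namespace WedgeLib

variable {X : Scheme.{u}} {E L L' D : X.Modules} {p q n : ℕ}

/-- **`⋀^q E ≅ Hom(⋀^p E, ⋀^n E)` for `E` locally free of rank `n = p + q`.** -/
theorem nonempty_iso_homMod (hE : FlatMod.IsFinLocFreeOfRank n E) (h : q + p = n)
    (hL : ExtPow.IsExtPow p E L) (hL' : ExtPow.IsExtPow q E L') (hD : ExtPow.IsExtPow n E D) [Coh.IsQCoh L] :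
    Nonempty (L' ≅ homMod L D) := by
  classical
  obtain ⟨φ, hφ⟩ := hL
  obtain ⟨φ', hφ'⟩ := hL'
  obtain ⟨ψ, hψ⟩ := hD
  let μ : ∀ U : X.affineOpens, Γ(L', U.1) →ₗ[Γ(X, U.1)] Γ(L, U.1) →ₗ[Γ(X, U.1)] Γ(D, U.1) := fun U =>
    pair (R := Γ(X, U.1)) (M := E.val.obj (op U.1)) h (φ' U) (φ U) (ψ U)
  have hres : ∀ (U V : X.affineOpens) (hVU : V.1 ≤ U.1) (a : Γ(L', U.1)) (m : Γ(L, U.1)),
      AmpleLib.res D hVU (μ U a m) = μ V (AmpleLib.res L' hVU a) (AmpleLib.res L hVU m) := by
    intro U V hVU a m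
    let σ : Γ(X, U.1) →+* Γ(X, V.1) := (X.presheaf.map (homOfLE hVU).op).hom
    let r : ∀ (M : X.Modules), Γ(M, U.1) →ₛₗ[σ] Γ(M, V.1) := fun M =>
      { toFun := fun s => AmpleLib.res M hVU s
        map_add' := fun s t => map_add (M.presheaf.map (homOfLE hVU).op).hom s t
        map_smul' := fun c s => AmpleLib.res_smul M hVU c s }
    exact pair_natural (R := Γ(X, U.1)) (σ := σ) (M := E.val.obj (op U.1)) (M' := E.val.obj (op V.1))
      h (φ' U) (φ U) (ψ U) (φ' V) (φ V) (ψ V)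
      (fun v => E.val.map (homOfLE hVU).op v) (r L') (r L) (r D)
      (fun v => hφ' U V hVU v) (fun v => hφ U V hVU v) (fun v => hψ U V hVU v) a m
  let e : ∀ U : X.affineOpens, Γ(homMod L D, U.1) ≃ₗ[Γ(X, U.1)] (Γ(L, U.1) →ₗ[Γ(X, U.1)] Γ(D, U.1)) := fun U =>
    LinearEquiv.ofBijective (HomCohLib.lin U.1) (HomCohLib.lin_bijective U.2)
  let f : ∀ U : X.affineOpens, Γ(L', U.1) →ₗ[Γ(X, U.1)] Γ(homMod L D, U.1) := fun U =>
    (e U).symm.toLinearMap.comp (μ U)
  have hf : ∀ U a m, happ (f U a) m = μ U a m := fun U a m =>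
    LinearMap.congr_fun ((e U).apply_symm_apply (μ U a)) m
  obtain ⟨Φ, hΦ⟩ := exists_hom_affine f fun U V hVU a => HomCohLib.hom_ext U.2 hVU _ _ fun m => by
    rw [hf]
    refine Eq.trans ?_ (hres U V hVU a m)
    refine (HomCohLib.happ_res hVU (f U a) m).trans ?_
    exact congrArg _ (hf U a m)
  choose O b hxO hb using fun x : X => SeesawLib.rankSet_of_rank hE x
  haveI : IsIso Φ := GrTildeLib.isIso_of_bijective_basis Φ
    (fun U : { U : X.affineOpens // ∃ x, U.1 ≤ O x } => U.1.1)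
    (fun V x hx => by
      obtain ⟨A, hA, hxA, hle⟩ := exists_isAffineOpen_mem_and_subset (X := X) (x := x) (U := V ⊓ O x) ⟨hx, hxO x⟩
      exact ⟨⟨⟨A, hA⟩, x, hle.trans inf_le_right⟩, hxA, hle.trans inf_le_left⟩)
    fun ⟨U, x, hU⟩ => by
      let B : Module.Basis (Fin n) Γ(X, U.1) (E.val.obj (op U.1)) :=
        Module.Basis.ofEquivFun (LinearEquiv.ofBijective (Fintype.linearCombination Γ(X, U.1) (M := E.val.obj (op U.1))
          fun i => AmpleLib.res E hU (b x i)) (GrassSch.bijective_comb_open (hb x) hU)).symm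
      rw [show ⇑(Φ.app U.1) = ⇑(f U) from funext (hΦ U)]
      refine (e U).symm.bijective.comp ?_
      exact pair_bijective (R := Γ(X, U.1)) h (φ' U) (φ U) (ψ U) B
  exact ⟨asIso Φ⟩

end WedgeLib

end
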