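import Mathlib
import Groth.Agent.DetDegLib.Wedge

/-!
# The pairing of complementary exterior powers of a free module
-/

set_option autoImplicit false
universe u v w

open Module

noncomputable section

namespace WedgeLib

variable {R : Type u} [CommRing R] {M : Type v} [AddCommGroup M] [Module R M] {p q n : ℕ}

/-- Multiplication of exterior powers. -/
def wedgeMul (h : q + p = n) : ↥(⋀[R]^q M) →ₗ[R] ↥(⋀[R]^p M) →ₗ[R] ↥(⋀[R]^n M) :=
  LinearMap.mk₂ R (fun a b => ⟨a.1 * b.1, by
      subst h
      rw [ExteriorAlgebra.exteriorPower, pow_add]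
      exact Submodule.mul_mem_mul a.2 b.2⟩)
    (fun a a' b => Subtype.ext (add_mul a.1 a'.1 b.1)) (fun c a b => Subtype.ext (smul_mul_assoc c a.1 b.1))
    (fun a b b' => Subtype.ext (mul_add a.1 b.1 b'.1)) (fun c a b => Subtype.ext (mul_smul_comm c a.1 b.1))

theorem wedgeMul_ιMulti (h : q + p = n) (a : Fin q → M) (b : Fin p → M) :
    wedgeMul h (exteriorPower.ιMulti R q a) (exteriorPower.ιMulti R p b) =
      exteriorPower.ιMulti R n (Fin.append a b ∘ Fin.cast h.symm) := by
  subst h
  refine Subtype.ext ?_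
  show ExteriorAlgebra.ιMulti R q a * ExteriorAlgebra.ιMulti R p b =
    ExteriorAlgebra.ιMulti R (q + p) (Fin.append a b)
  rw [ExteriorAlgebra.ιMulti_apply, ExteriorAlgebra.ιMulti_apply, ExteriorAlgebra.ιMulti_apply, ← List.prod_append,
    ← List.ofFn_fin_append]
  congr 2
  funext i
  refine Fin.addCases (fun i => ?_) (fun i => ?_) i <;> simp

/-- The wedge of a permuted basis is a multiple by a unit. -/
theorem exists_unit_of_bijective (b : Fin n → M) (g : Fin n → Fin n) (hg : Function.Bijective g) :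
    ∃ c : Rˣ, exteriorPower.ιMulti R n (b ∘ g) = (c : R) • exteriorPower.ιMulti R n b := by
  let σ : Equiv.Perm (Fin n) := Equiv.ofBijective g hg
  have h := (exteriorPower.ιMulti R n (M := M)).map_perm b σ
  refine ⟨Units.map (Int.castRingHom R).toMonoidHom (Equiv.Perm.sign σ), ?_⟩
  refine Eq.trans h ?_
  rw [Units.smul_def, ← Int.cast_smul_eq_zsmul R]
  rfl

theorem ιMulti_eq_zero (b : Fin n → M) (g : Fin n → Fin n) (hg : ¬ Function.Injective g) :
    exteriorPower.ιMulti R n (b ∘ g) = 0 := by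
  obtain ⟨i, j, hij, hne⟩ := Function.not_injective_iff.1 hg
  exact (exteriorPower.ιMulti R n (M := M)).map_eq_zero_of_eq (b ∘ g) (congrArg b hij) hne

/-- A pairing which is a permuted diagonal matrix with unit entries is perfect. -/
theorem bijective_of_diag {A P D I J : Type*} [AddCommGroup A] [Module R A] [AddCommGroup P] [Module R P]
    [AddCommGroup D] [Module R D] [Fintype I] (B : Basis I R A) (C : Basis J R P) (d : D)
    (hd : Function.Bijective fun c : R => c • d) (Φ : A →ₗ[R] P →ₗ[R] D) (e : I ≃ J) (c : I → Rˣ)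
    (hdiag : ∀ i, Φ (B i) (C (e i)) = (c i : R) • d) (hoff : ∀ i j, j ≠ e i → Φ (B i) (C j) = 0) :
    Function.Bijective Φ := by
  classical
  have key : ∀ (x : I → R) (i₀ : I), Φ (∑ i, x i • B i) (C (e i₀)) = (x i₀ * c i₀) • d := by
    intro x i₀
    rw [map_sum, LinearMap.sum_apply, Finset.sum_eq_single i₀]
    · rw [map_smul, LinearMap.smul_apply, hdiag, smul_smul]
    · intro i _ hi
      rw [map_smul, LinearMap.smul_apply, hoff i _ fun h => hi (e.injective h).symm, smul_zero]
    · exact fun h => absurd (Finset.mem_univ _) h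
  constructor
  · refine (injective_iff_map_eq_zero Φ).2 fun x hx => ?_
    rw [← B.sum_repr x] at hx ⊢
    refine Finset.sum_eq_zero fun i _ => ?_
    have h1 := (key (fun i => B.repr x i) i).symm.trans (by rw [hx, LinearMap.zero_apply])
    have h2 : B.repr x i * (c i : R) = 0 := hd.1 (h1.trans (zero_smul R d).symm)
    rw [show B.repr x i = 0 from (c i).isUnit.mul_left_eq_zero.1 h2, zero_smul]
  · intro f
    choose a ha using fun i => hd.2 (f (C (e i)))
    refine ⟨∑ i, (a i * ((c i)⁻¹ : Rˣ)) • B i, C.ext fun j => ?_⟩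
    rw [← e.apply_symm_apply j, key, Units.inv_mul_cancel_right]
    exact ha _

/-- Semilinear maps commute with two pairings if they do so on generators. -/
theorem map_pairing {R S : Type*} [CommRing R] [CommRing S] {σ : R →+* S} {A B C A' B' C' : Type*}
    [AddCommGroup A] [Module R A] [AddCommGroup B] [Module R B] [AddCommGroup C] [Module R C]
    [AddCommGroup A'] [Module S A'] [AddCommGroup B'] [Module S B'] [AddCommGroup C'] [Module S C']
    (μ : A →ₗ[R] B →ₗ[R] C) (μ' : A' →ₗ[S] B' →ₗ[S] C') (rA : A →ₛₗ[σ] A') (rB : B →ₛₗ[σ] B') (rC : C →ₛₗ[σ] C')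
    {sA : Set A} (hA : Submodule.span R sA = ⊤) {sB : Set B} (hB : Submodule.span R sB = ⊤)
    (h : ∀ a ∈ sA, ∀ b ∈ sB, rC (μ a b) = μ' (rA a) (rB b)) (a : A) (b : B) :
    rC (μ a b) = μ' (rA a) (rB b) := by
  have h1 : ∀ a ∈ sA, ∀ b, rC (μ a b) = μ' (rA a) (rB b) := fun a ha b => by
    have hb : b ∈ Submodule.span R sB := hB ▸ Submodule.mem_top
    induction hb using Submodule.span_induction with
    | mem b hb => exact h a ha b hb
    | zero => simp
    | add b b' _ _ hb hb' => simp [hb, hb']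
    | smul r b _ hb => simp [hb]
  have ha : a ∈ Submodule.span R sA := hA ▸ Submodule.mem_top
  induction ha using Submodule.span_induction with
  | mem a ha => exact h1 a ha b
  | zero => simp
  | add a a' _ _ ha ha' => simp [ha, ha']
  | smul r a _ ha => simp [ha]

/-- The complementary set of indices. -/
def complEquiv (h : q + p = n) : Set.powersetCard (Fin n) q ≃ Set.powersetCard (Fin n) p where
  toFun s := ⟨(s.1)ᶜ, by rw [Set.powersetCard.mem_iff, Finset.card_compl, Fintype.card_fin, s.2]; omega⟩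
  invFun s := ⟨(s.1)ᶜ, by rw [Set.powersetCard.mem_iff, Finset.card_compl, Fintype.card_fin, s.2]; omega⟩
  left_inv s := Subtype.ext (compl_compl _)
  right_inv s := Subtype.ext (compl_compl _)

/-- **Complementary exterior powers of a free module are perfectly paired.** -/
theorem wedgeMul_bijective (h : q + p = n) (b : Basis (Fin n) R M) :
    Function.Bijective (wedgeMul (R := R) (M := M) h) := by
  classical
  have hbb : Function.Bijective fun c : Fin n → R => ∑ i, c i • b i := by
    have : (fun c : Fin n → R => ∑ i, c i • b i) = b.equivFun.symm := funext fun c => (b.equivFun_symm_apply c).symm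
    rw [this]
    exact b.equivFun.symm.bijective
  let g : Set.powersetCard (Fin n) q → Set.powersetCard (Fin n) p → Fin n → Fin n := fun t s =>
    Fin.append (Set.powersetCard.ofFinEmbEquiv.symm t) (Set.powersetCard.ofFinEmbEquiv.symm s) ∘ Fin.cast h.symm
  have hg : ∀ t s, wedgeMul h (b.exteriorPower q t) (b.exteriorPower p s) =
      exteriorPower.ιMulti R n (b ∘ g t s) := by
    intro t s
    rw [exteriorPower.basis_apply, exteriorPower.basis_apply, exteriorPower.ιMulti_family, exteriorPower.ιMulti_family,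
      wedgeMul_ιMulti]
    refine congrArg (exteriorPower.ιMulti R n) (funext fun i => ?_)
    simp only [g, Function.comp_apply]
    generalize Fin.cast h.symm i = j
    refine Fin.addCases (fun i => ?_) (fun i => ?_) j <;> simp
  have hinj : ∀ t s, s = complEquiv h t → Function.Injective (g t s) := by
    rintro t s rfl
    refine Function.Injective.comp (Fin.append_injective_iff.2 ⟨RelEmbedding.injective _, RelEmbedding.injective _,
      fun i j hij => ?_⟩) (Fin.cast_injective h.symm)
    have h1 := (Set.powersetCard.mem_range_ofFinEmbEquiv_symm_iff_mem t _).1 ⟨i, rfl⟩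
    have h2 : Set.powersetCard.ofFinEmbEquiv.symm (complEquiv h t) j ∈ (t.1)ᶜ :=
      (Set.powersetCard.mem_range_ofFinEmbEquiv_symm_iff_mem (complEquiv h t) _).1 ⟨j, rfl⟩
    rw [← hij] at h2
    exact Finset.mem_compl.1 h2 h1
  have hoff : ∀ t s, s ≠ complEquiv h t → ¬ Function.Injective (g t s) := by
    intro t s hne hi
    refine hne (Subtype.ext (Finset.eq_of_subset_of_card_le (fun x hx => Finset.mem_compl.2 fun hxt => ?_) ?_))
    · obtain ⟨i, hi'⟩ := (Set.powersetCard.mem_range_ofFinEmbEquiv_symm_iff_mem t x).2 hxt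
      obtain ⟨j, hj'⟩ := (Set.powersetCard.mem_range_ofFinEmbEquiv_symm_iff_mem s x).2 hx
      have h3 : g t s (Fin.cast h (Fin.castAdd p i)) = g t s (Fin.cast h (Fin.natAdd q j)) := by
        simp [g, hi', hj']
      have h4 := Fin.cast_injective h (hi h3)
      have h5 := congrArg Fin.val h4
      simp only [Fin.val_castAdd, Fin.val_natAdd] at h5
      have := i.isLt
      omega
    · rw [show ((complEquiv h t).1).card = p from (complEquiv h t).2, show (s.1).card = p from s.2]
  choose c hc using fun t => exists_unit_of_bijective (R := R) b (g t (complEquiv h t))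
    (Finite.injective_iff_bijective.1 (hinj t _ rfl))
  exact bijective_of_diag (b.exteriorPower q) (b.exteriorPower p) (exteriorPower.ιMulti R n b)
    (DetDegLib.bijective_smul_ιMulti b hbb) (wedgeMul h) (complEquiv h) c (fun t => (hg t _).trans (hc t))
    fun t s hne => (hg t s).trans (ιMulti_eq_zero b _ (hoff t s hne))

section Pair

variable {A B C : Type*} [AddCommGroup A] [Module R A] [AddCommGroup B] [Module R B] [AddCommGroup C] [Module R C]

/-- The pairing transported to modules identified with exterior powers. -/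
def pair (h : q + p = n) (φA : A ≃ₗ[R] ↥(⋀[R]^q M)) (φB : B ≃ₗ[R] ↥(⋀[R]^p M)) (φC : C ≃ₗ[R] ↥(⋀[R]^n M)) :
    A →ₗ[R] B →ₗ[R] C :=
  (LinearEquiv.arrowCongr φB.symm φC.symm).toLinearMap.comp ((wedgeMul h).comp φA.toLinearMap)

theorem pair_apply (h : q + p = n) (φA : A ≃ₗ[R] ↥(⋀[R]^q M)) (φB : B ≃ₗ[R] ↥(⋀[R]^p M))
    (φC : C ≃ₗ[R] ↥(⋀[R]^n M)) (a : A) (b : B) : pair h φA φB φC a b = φC.symm (wedgeMul h (φA a) (φB b)) := rfl

theorem pair_bijective (h : q + p = n) (φA : A ≃ₗ[R] ↥(⋀[R]^q M)) (φB : B ≃ₗ[R] ↥(⋀[R]^p M))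
    (φC : C ≃ₗ[R] ↥(⋀[R]^n M)) (b : Basis (Fin n) R M) : Function.Bijective (pair h φA φB φC) :=
  ((LinearEquiv.arrowCongr φB.symm φC.symm).bijective.comp (wedgeMul_bijective h b)).comp φA.bijective

/-- **The pairing commutes with compatible semilinear maps.** -/
theorem pair_natural {S : Type*} [CommRing S] {σ : R →+* S} {M' : Type*} [AddCommGroup M'] [Module S M']
    {A' B' C' : Type*} [AddCommGroup A'] [Module S A'] [AddCommGroup B'] [Module S B'] [AddCommGroup C'] [Module S C']
    (h : q + p = n) (φA : A ≃ₗ[R] ↥(⋀[R]^q M)) (φB : B ≃ₗ[R] ↥(⋀[R]^p M)) (φC : C ≃ₗ[R] ↥(⋀[R]^n M))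
    (φA' : A' ≃ₗ[S] ↥(⋀[S]^q M')) (φB' : B' ≃ₗ[S] ↥(⋀[S]^p M')) (φC' : C' ≃ₗ[S] ↥(⋀[S]^n M'))
    (f : M → M') (rA : A →ₛₗ[σ] A') (rB : B →ₛₗ[σ] B') (rC : C →ₛₗ[σ] C')
    (hA : ∀ v, rA (φA.symm (exteriorPower.ιMulti R q v)) = φA'.symm (exteriorPower.ιMulti S q (f ∘ v)))
    (hB : ∀ v, rB (φB.symm (exteriorPower.ιMulti R p v)) = φB'.symm (exteriorPower.ιMulti S p (f ∘ v)))
    (hC : ∀ v, rC (φC.symm (exteriorPower.ιMulti R n v)) = φC'.symm (exteriorPower.ιMulti S n (f ∘ v)))
    (a : A) (b : B) : rC (pair h φA φB φC a b) = pair h φA' φB' φC' (rA a) (rB b) := by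
  obtain ⟨y, rfl⟩ := φA.symm.surjective a
  obtain ⟨z, rfl⟩ := φB.symm.surjective b
  refine map_pairing ((pair h φA φB φC).comp φA.symm.toLinearMap |>.compl₂ φB.symm.toLinearMap)
    (pair h φA' φB' φC') (rA.comp φA.symm.toLinearMap) (rB.comp φB.symm.toLinearMap) rC
    (exteriorPower.ιMulti_span R q M) (exteriorPower.ιMulti_span R p M) ?_ y z
  rintro _ ⟨v, rfl⟩ _ ⟨w, rfl⟩
  show rC (pair h φA φB φC (φA.symm _) (φB.symm _)) = pair h φA' φB' φC' (rA (φA.symm _)) (rB (φB.symm _))
  rw [hA, hB, pair_apply, pair_apply, LinearEquiv.apply_symm_apply, LinearEquiv.apply_symm_apply,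
    LinearEquiv.apply_symm_apply, LinearEquiv.apply_symm_apply, wedgeMul_ιMulti, wedgeMul_ιMulti, hC]
  refine congrArg (fun v => φC'.symm (exteriorPower.ιMulti S n v)) (funext fun i => ?_)
  simp only [Function.comp_apply]
  generalize Fin.cast h.symm i = j
  refine Fin.addCases (fun i => ?_) (fun i => ?_) j <;> simp

end Pair

end WedgeLib

end
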