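import Mathlib
import Groth.Agent.WedgeLib.Alg

/-!
# The filtration of an exterior power attached to a split exact sequence of modules
-/

set_option autoImplicit false
set_option linter.style.haveILetI false
set_option linter.unusedSectionVars false
set_option maxHeartbeats 1000000
universe u v

open scoped TensorProduct

noncomputable section

namespace WedgeLib

open ExteriorAlgebra (ι)

variable {R : Type u} [CommRing R] {P M Q : Type v} [AddCommGroup P] [Module R P] [AddCommGroup M] [Module R M]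
  [AddCommGroup Q] [Module R Q]

theorem range_mul_range_le (f : P →ₗ[R] M) (s : Q →ₗ[R] M) :
    LinearMap.range ((ι R).comp s) * LinearMap.range ((ι R).comp f) ≤
      LinearMap.range ((ι R).comp f) * LinearMap.range ((ι R).comp s) := by
  rw [Submodule.mul_le]
  rintro _ ⟨y, rfl⟩ _ ⟨x, rfl⟩
  rw [LinearMap.comp_apply, LinearMap.comp_apply,
    eq_neg_of_add_eq_zero_left (ExteriorAlgebra.ι_add_mul_swap (s y) (f x)), neg_mem_iff]
  exact Submodule.mul_mem_mul ⟨x, rfl⟩ ⟨y, rfl⟩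

theorem pow_range_le (f : P →ₗ[R] M) (s : Q →ₗ[R] M) (hfs : ∀ m, ∃ x y, f x + s y = m) (n : ℕ) :
    LinearMap.range (ι R (M := M)) ^ n ≤
      ⨆ j : Fin (n + 1), LinearMap.range ((ι R).comp f) ^ (j : ℕ) * LinearMap.range ((ι R).comp s) ^ (n - j : ℕ) := by
  induction n with
  | zero => exact le_iSup_of_le 0 (by simp)
  | succ n ih =>
    set A := LinearMap.range ((ι R).comp f)
    set B := LinearMap.range ((ι R).comp s)
    have hM : LinearMap.range (ι R (M := M)) ≤ A ⊔ B := by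
      rintro _ ⟨m, rfl⟩
      obtain ⟨x, y, rfl⟩ := hfs m
      rw [map_add]
      exact Submodule.add_mem_sup ⟨x, rfl⟩ ⟨y, rfl⟩
    have hcomm : ∀ j : ℕ, B * A ^ j ≤ A ^ j * B := by
      intro j
      induction j with
      | zero => simp
      | succ j hj =>
        calc B * A ^ (j + 1) = B * A ^ j * A := by rw [pow_succ, mul_assoc]
          _ ≤ A ^ j * B * A := mul_le_mul_left hj A
          _ = A ^ j * (B * A) := mul_assoc _ _ _
          _ ≤ A ^ j * (A * B) := mul_le_mul_right (range_mul_range_le f s) _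
          _ = A ^ (j + 1) * B := by rw [pow_succ, mul_assoc]
    rw [pow_succ']
    refine (mul_le_mul' hM ih).trans ?_
    rw [Submodule.mul_iSup]
    refine iSup_le fun j => ?_
    rw [Submodule.sup_mul, sup_le_iff]
    constructor
    · refine le_iSup_of_le j.succ ?_
      rw [Fin.val_succ, ← mul_assoc, ← pow_succ', Nat.add_sub_add_right]
    · refine le_iSup_of_le j.castSucc ?_
      rw [Fin.val_castSucc, ← mul_assoc, show n + 1 - (j : ℕ) = (n - j) + 1 by omega, pow_succ' B, ← mul_assoc]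
      exact mul_le_mul_left (hcomm j) _

theorem range_comp_pow (f : P →ₗ[R] M) (j : ℕ) :
    LinearMap.range ((ι R).comp f) ^ j = (⋀[R]^j P).map (ExteriorAlgebra.map f).toLinearMap := by
  rw [ExteriorAlgebra.exteriorPower, Submodule.map_pow, ← LinearMap.range_comp]
  congr 2
  exact LinearMap.ext fun x => (ExteriorAlgebra.map_apply_ι f x).symm

theorem map_coe (f : P →ₗ[R] M) (j : ℕ) (x : ↥(⋀[R]^j P)) :
    (exteriorPower.map j f x : ExteriorAlgebra R M) = ExteriorAlgebra.map f x.1 := by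
  have h : (⋀[R]^j M).subtype.comp (exteriorPower.map j f) =
      (ExteriorAlgebra.map f).toLinearMap.comp (⋀[R]^j P).subtype := by
    refine LinearMap.ext_on (exteriorPower.ιMulti_span R j P) ?_
    rintro _ ⟨v, rfl⟩
    simp [exteriorPower.ιMulti_apply_coe, ExteriorAlgebra.map_apply_ιMulti]
  exact LinearMap.congr_fun h x

section Split

variable (f : P →ₗ[R] M) (π : M →ₗ[R] Q) (hf : Function.Injective f) (hex : LinearMap.range f = LinearMap.ker π)
  (s : Q →ₗ[R] M) (hs : ∀ y, π (s y) = y)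

/-- The step `i` of the filtration of `⋀^n M`. -/
def fil (n i : ℕ) : Submodule R ↥(⋀[R]^n M) :=
  if h : i ≤ n then Submodule.span R (Set.range fun p : ↥(⋀[R]^i P) × ↥(⋀[R]^(n - i) M) =>
    wedgeMul (Nat.add_sub_cancel' h) (exteriorPower.map i f p.1) p.2) else ⊥

include hf hex hs in
/-- Components of a split exterior power. -/
theorem exists_components (n : ℕ) :
    ∃ c : ∀ j : ℕ, ↥(⋀[R]^n M) →ₗ[R] ↥(⋀[R]^j P) ⊗[R] ↥(⋀[R]^(n - j) Q),
      ∀ (i j : ℕ) (h : j ≤ n) (x : ↥(⋀[R]^j P)) (y : ↥(⋀[R]^(n - j) Q)),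
        (i ≠ j → c i (wedgeMul (Nat.add_sub_cancel' h) (exteriorPower.map j f x) (exteriorPower.map (n - j) s y)) = 0) ∧
        c j (wedgeMul (Nat.add_sub_cancel' h) (exteriorPower.map j f x) (exteriorPower.map (n - j) s y)) = x ⊗ₜ y := by
  classical
  let e : P ≃ₗ[R] LinearMap.range f := LinearEquiv.ofInjective f hf
  have hr0 : ∀ m, m - s (π m) ∈ LinearMap.range f := fun m => by
    rw [hex, LinearMap.mem_ker, map_sub, hs, sub_self]
  let r : M →ₗ[R] P := e.symm.toLinearMap.comp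
    ((LinearMap.id - s.comp π : M →ₗ[R] M).codRestrict (LinearMap.range f) hr0)
  have hfr : ∀ m, f (r m) = m - s (π m) := fun m =>
    congrArg Subtype.val (e.apply_symm_apply ⟨m - s (π m), hr0 m⟩)
  have hπf : ∀ x, π (f x) = 0 := fun x => LinearMap.mem_ker.1 (hex ▸ LinearMap.mem_range_self f x)
  have hrf : ∀ x, r (f x) = x := fun x => hf (by rw [hfr, hπf, map_zero, sub_zero])
  have hrs : ∀ y, r (s y) = 0 := fun y => hf (by rw [hfr, hs, sub_self, map_zero])
  let T := CliffordAlgebra.evenOdd (0 : QuadraticForm R P)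
  let U := CliffordAlgebra.evenOdd (0 : QuadraticForm R Q)
  let q : (0 : QuadraticForm R M) →qᵢ QuadraticMap.prod (0 : QuadraticForm R P) (0 : QuadraticForm R Q) :=
    { toLinearMap := r.prod π, map_app' := fun m => by simp }
  let Ψ := (CliffordAlgebra.ofProd (0 : QuadraticForm R P) (0 : QuadraticForm R Q)).comp (CliffordAlgebra.map q)
  have hΨf : Ψ.comp (ExteriorAlgebra.map f) = GradedTensorProduct.includeLeft T U := by
    refine ExteriorAlgebra.hom_ext (LinearMap.ext fun x => ?_)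
    show Ψ (ExteriorAlgebra.map f (ι R x)) = _
    rw [ExteriorAlgebra.map_apply_ι]
    show CliffordAlgebra.ofProd _ _ (CliffordAlgebra.map q (CliffordAlgebra.ι _ (f x))) = _
    rw [CliffordAlgebra.map_apply_ι, show q (f x) = (x, (0 : Q)) from Prod.ext (hrf x) (hπf x),
      CliffordAlgebra.ofProd_ι_mk]
    simp [GradedTensorProduct.tmul]
    rfl
  have hΨs : Ψ.comp (ExteriorAlgebra.map s) = GradedTensorProduct.includeRight T U := by
    refine ExteriorAlgebra.hom_ext (LinearMap.ext fun y => ?_)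
    show Ψ (ExteriorAlgebra.map s (ι R y)) = _
    rw [ExteriorAlgebra.map_apply_ι]
    show CliffordAlgebra.ofProd _ _ (CliffordAlgebra.map q (CliffordAlgebra.ι _ (s y))) = _
    rw [CliffordAlgebra.map_apply_ι, show q (s y) = ((0 : P), y) from Prod.ext (hrs y) (hs y),
      CliffordAlgebra.ofProd_ι_mk]
    simp [GradedTensorProduct.tmul]
    rfl
  let pr : ∀ (N : Type v) [AddCommGroup N] [Module R N] (j : ℕ), ExteriorAlgebra R N →ₗ[R] ↥(⋀[R]^j N) :=
    fun N _ _ j => (DirectSum.component R ℕ (fun i => ↥(⋀[R]^i N)) j).comp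
      (DirectSum.decomposeLinearEquiv (fun i : ℕ => ⋀[R]^i N)).toLinearMap
  let c : ∀ j : ℕ, ↥(⋀[R]^n M) →ₗ[R] ↥(⋀[R]^j P) ⊗[R] ↥(⋀[R]^(n - j) Q) := fun j =>
    ((TensorProduct.map (pr P j) (pr Q (n - j))).comp (GradedTensorProduct.of R T U).symm.toLinearMap).comp
      (Ψ.toLinearMap.comp (⋀[R]^n M).subtype)
  refine ⟨c, fun i j h x y => ?_⟩
  have key : ∀ i, c i (wedgeMul (Nat.add_sub_cancel' h) (exteriorPower.map j f x) (exteriorPower.map (n - j) s y)) =
      pr P i x.1 ⊗ₜ pr Q (n - i) y.1 := fun i => by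
    show TensorProduct.map _ _ ((GradedTensorProduct.of R T U).symm
      (Ψ ((exteriorPower.map j f x).1 * (exteriorPower.map (n - j) s y).1))) = _
    rw [map_coe, map_coe, map_mul, ← AlgHom.comp_apply, ← AlgHom.comp_apply, hΨf, hΨs]
    have e1 : GradedTensorProduct.includeLeft T U x.1 * GradedTensorProduct.includeRight T U y.1 =
        GradedTensorProduct.tmul R x.1 y.1 := by
      show GradedTensorProduct.tmul R x.1 1 * GradedTensorProduct.tmul R 1 y.1 = _
      rw [GradedTensorProduct.tmul_one_mul_one_tmul]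
    rw [e1]
    rfl
  refine ⟨fun hij => ?_, ?_⟩
  · rw [key i, show pr P i x.1 = 0 from Subtype.ext
      (DirectSum.decompose_of_mem_ne (fun i : ℕ => ⋀[R]^i P) x.2 (Ne.symm hij)), TensorProduct.zero_tmul]
  · rw [key j, show pr P j x.1 = x from Subtype.ext (DirectSum.decompose_of_mem_same (fun i : ℕ => ⋀[R]^i P) x.2),
      show pr Q (n - j) y.1 = y from Subtype.ext (DirectSum.decompose_of_mem_same (fun i : ℕ => ⋀[R]^i Q) y.2)]

/-- The piece `j` of a split exterior power. -/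
def gen (n j : ℕ) (h : j ≤ n) : ↥(⋀[R]^j P) ⊗[R] ↥(⋀[R]^(n - j) Q) →ₗ[R] ↥(⋀[R]^n M) :=
  TensorProduct.lift (((wedgeMul (Nat.add_sub_cancel' h)).compl₂ (exteriorPower.map (n - j) s)).comp
    (exteriorPower.map j f))

theorem gen_tmul (n j : ℕ) (h : j ≤ n) (x : ↥(⋀[R]^j P)) (y : ↥(⋀[R]^(n - j) Q)) :
    gen f s n j h (x ⊗ₜ y) =
      wedgeMul (Nat.add_sub_cancel' h) (exteriorPower.map j f x) (exteriorPower.map (n - j) s y) := rfl

theorem coe_gen_tmul (n j : ℕ) (h : j ≤ n) (x : ↥(⋀[R]^j P)) (y : ↥(⋀[R]^(n - j) Q)) :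
    (gen f s n j h (x ⊗ₜ y) : ExteriorAlgebra R M) = ExteriorAlgebra.map f x.1 * ExteriorAlgebra.map s y.1 := by
  rw [gen_tmul]
  show (exteriorPower.map j f x : ExteriorAlgebra R M) * (exteriorPower.map (n - j) s y : ExteriorAlgebra R M) = _
  rw [map_coe, map_coe]

include hf hex hs in
theorem span_gen (n : ℕ) : ⨆ j : Fin (n + 1), LinearMap.range (gen f s n j (Nat.lt_succ_iff.1 j.2)) = ⊤ := by
  have hfs : ∀ m, ∃ x y, f x + s y = m := fun m => by
    obtain ⟨x, hx⟩ : m - s (π m) ∈ LinearMap.range f := by rw [hex, LinearMap.mem_ker, map_sub, hs, sub_self]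
    exact ⟨x, π m, by rw [hx]; abel⟩
  refine eq_top_iff.2 fun z _ => ?_
  have hle : ⨆ j : Fin (n + 1), LinearMap.range ((ι R).comp f) ^ (j : ℕ) *
      LinearMap.range ((ι R).comp s) ^ (n - j : ℕ) ≤
      (⨆ j : Fin (n + 1), LinearMap.range (gen f s n j (Nat.lt_succ_iff.1 j.2))).map (⋀[R]^n M).subtype := by
    refine iSup_le fun j => ?_
    rw [range_comp_pow, range_comp_pow, Submodule.mul_le]
    rintro _ ⟨x, hx, rfl⟩ _ ⟨y, hy, rfl⟩
    exact ⟨gen f s n j (Nat.lt_succ_iff.1 j.2) ((⟨x, hx⟩ : ↥(⋀[R]^(j : ℕ) P)) ⊗ₜ[R] (⟨y, hy⟩ : ↥(⋀[R]^(n - j : ℕ) Q))),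
      Submodule.mem_iSup_of_mem j (LinearMap.mem_range_self _ _), coe_gen_tmul f s n j (Nat.lt_succ_iff.1 j.2) _ _⟩
  obtain ⟨z', hz', e⟩ := hle (pow_range_le f s hfs n z.2)
  rwa [← Subtype.ext (a1 := z') e]

theorem map_ιMulti_eq_zero_of_zero {N L : Type v} [AddCommGroup N] [Module R N] [AddCommGroup L] [Module R L]
    {φ : N →ₗ[R] L} (hφ : ∀ x, φ x = 0) (k : ℕ) (hk : 0 < k) (x : ↥(⋀[R]^k N)) :
    exteriorPower.map k φ x = 0 := by
  refine LinearMap.congr_fun (LinearMap.ext_on (exteriorPower.ιMulti_span R k N) ?_ :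
    exteriorPower.map k φ = 0) x
  rintro _ ⟨v, rfl⟩
  rw [exteriorPower.map_apply_ιMulti, LinearMap.zero_apply]
  exact (exteriorPower.ιMulti R k (M := L)).map_coord_zero ⟨0, hk⟩ (hφ _)

theorem fil_eq {n i : ℕ} (h : i ≤ n) : fil (M := M) f n i = Submodule.span R
    (Set.range fun p : ↥(⋀[R]^i P) × ↥(⋀[R]^(n - i) M) =>
      wedgeMul (Nat.add_sub_cancel' h) (exteriorPower.map i f p.1) p.2) := dif_pos h

/-- The product with a piece. -/
theorem wedgeMul_gen {n i k : ℕ} (hi : i ≤ n) (hk : k ≤ n - i) (a : ↥(⋀[R]^i P)) (x : ↥(⋀[R]^k P))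
    (y : ↥(⋀[R]^(n - i - k) Q)) :
    wedgeMul (Nat.add_sub_cancel' hi) (exteriorPower.map i f a) (gen f s (n - i) k hk (x ⊗ₜ y)) =
      gen f s n (i + k) (by omega) (wedgeMul rfl a x ⊗ₜ
        (⟨y.1, (show n - i - k = n - (i + k) by omega) ▸ y.2⟩ : ↥(⋀[R]^(n - (i + k)) Q))) := by
  refine Subtype.ext ?_
  show (exteriorPower.map i f a).1 * (gen f s (n - i) k hk (x ⊗ₜ y)).1 = _
  rw [coe_gen_tmul, coe_gen_tmul, map_coe, ← mul_assoc]
  exact congrArg (· * _) (map_mul (ExteriorAlgebra.map f) _ _).symm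

/-- Higher pieces lie in the filtration. -/
theorem range_gen_le {n k j : ℕ} (hk : k ≤ j) (hj : j ≤ n) :
    LinearMap.range (gen f s n j hj) ≤ fil f n k := by
  obtain ⟨l, rfl⟩ := Nat.exists_eq_add_of_le hk
  rw [fil_eq f (hk.trans hj)]
  rintro _ ⟨t, rfl⟩
  induction t with
  | zero => simp
  | add a b ha hb => rw [map_add]; exact add_mem ha hb
  | tmul x y =>
    have hx : x ∈ Submodule.span R (Set.range (exteriorPower.ιMulti R (k + l) (M := P))) := by
      rw [exteriorPower.ιMulti_span]; exact Submodule.mem_top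
    induction hx using Submodule.span_induction with
    | mem x hx =>
      obtain ⟨v, rfl⟩ := hx
      refine Submodule.subset_span ⟨⟨exteriorPower.ιMulti R k fun a => v (Fin.castAdd l a),
        gen f s (n - k) l (by omega) (exteriorPower.ιMulti R l (fun a => v (Fin.natAdd k a)) ⊗ₜ
          (⟨y.1, (show n - (k + l) = n - k - l by omega) ▸ y.2⟩ : ↥(⋀[R]^(n - k - l) Q)))⟩, ?_⟩
      refine (wedgeMul_gen f s (hk.trans hj) (show l ≤ n - k by omega) _ _ _).trans ?_
      refine congrArg (fun z => gen f s n (k + l) hj (z ⊗ₜ y)) ?_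
      rw [wedgeMul_ιMulti]
      exact congrArg _ (funext fun a => congrFun (Fin.append_castAdd_natAdd (f := v)) a)
    | zero => simp
    | add a b _ _ ha hb => rw [TensorProduct.add_tmul, map_add]; exact add_mem ha hb
    | smul r a _ ha => rw [← TensorProduct.smul_tmul', map_smul]; exact Submodule.smul_mem _ r ha

variable {n : ℕ} (c : ∀ j : ℕ, ↥(⋀[R]^n M) →ₗ[R] ↥(⋀[R]^j P) ⊗[R] ↥(⋀[R]^(n - j) Q))
  (hc : ∀ (i j : ℕ) (h : j ≤ n) (x : ↥(⋀[R]^j P)) (y : ↥(⋀[R]^(n - j) Q)),
    (i ≠ j → c i (gen f s n j h (x ⊗ₜ y)) = 0) ∧ c j (gen f s n j h (x ⊗ₜ y)) = x ⊗ₜ y)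

include hf hex hs hc in
/-- An element is the sum of its pieces. -/
theorem sum_components (z : ↥(⋀[R]^n M)) :
    ∑ j : Fin (n + 1), gen f s n j (Nat.lt_succ_iff.1 j.2) (c j z) = z := by
  classical
  induction (span_gen f π hf hex s hs n).ge (Submodule.mem_top : z ∈ ⊤) using Submodule.iSup_induction' with
  | zero => simp
  | add x y _ _ hx hy => simp only [map_add, Finset.sum_add_distrib, hx, hy]
  | mem j w hw =>
    obtain ⟨t, rfl⟩ := hw
    induction t with
    | zero => simp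
    | add x y hx hy => simp only [map_add, Finset.sum_add_distrib, hx, hy]
    | tmul x y =>
      rw [Finset.sum_eq_single j]
      · rw [(hc 0 j _ x y).2]
      · intro b _ hb
        rw [(hc b j _ x y).1 fun e => hb (Fin.ext e), map_zero]
      · exact fun h => absurd (Finset.mem_univ _) h

include hf hex hs hc in
/-- The lower components vanish on the filtration. -/
theorem component_eq_zero {k j : ℕ} (hj : j < k) (w : ↥(⋀[R]^n M)) (hw : w ∈ fil f n k) : c j w = 0 := by
  rcases Nat.lt_or_ge n k with hk | hk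
  · rw [fil, dif_neg (by omega), Submodule.mem_bot] at hw
    rw [hw, map_zero]
  rw [fil_eq f hk] at hw
  induction hw using Submodule.span_induction with
  | zero => simp
  | add a b _ _ ha hb => rw [map_add, ha, hb, add_zero]
  | smul r a _ ha => rw [map_smul, ha, smul_zero]
  | mem w hw =>
    obtain ⟨⟨a, m⟩, rfl⟩ := hw
    induction (span_gen f π hf hex s hs (n - k)).ge (Submodule.mem_top : m ∈ ⊤)
        using Submodule.iSup_induction' with
    | zero => simp
    | add x y _ _ hx hy => simp only [map_add] at hx hy ⊢; rw [hx, hy, add_zero]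
    | mem l m hm =>
      obtain ⟨t, rfl⟩ := hm
      induction t with
      | zero => simp
      | add x y hx hy => simp only [map_add] at hx hy ⊢; rw [hx, hy, add_zero]
      | tmul x y =>
        dsimp only
        rw [wedgeMul_gen f s hk (Nat.lt_succ_iff.1 l.2) a x y]
        exact (hc j _ _ _ _).1 (by omega)

include hf hex hs hc in
/-- The component of degree `i` on the generators of the filtration. -/
theorem component_wedgeMul {i : ℕ} (hi : i ≤ n) (a : ↥(⋀[R]^i P)) (m : ↥(⋀[R]^(n - i) M)) :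
    c i (wedgeMul (Nat.add_sub_cancel' hi) (exteriorPower.map i f a) m) = a ⊗ₜ exteriorPower.map (n - i) π m := by
  have hπf : ∀ x, π (f x) = 0 := fun x => LinearMap.mem_ker.1 (hex ▸ LinearMap.mem_range_self f x)
  induction (span_gen f π hf hex s hs (n - i)).ge (Submodule.mem_top : m ∈ ⊤) using Submodule.iSup_induction' with
  | zero => simp
  | add x y _ _ hx hy => rw [map_add, map_add, map_add, TensorProduct.tmul_add, hx, hy]
  | mem k m hm =>
    obtain ⟨t, rfl⟩ := hm
    induction t with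
    | zero => simp
    | add x y hx hy => rw [map_add, map_add, map_add, map_add, TensorProduct.tmul_add, hx, hy]
    | tmul x y =>
      have hk : (k : ℕ) ≤ n - i := Nat.lt_succ_iff.1 k.2
      rw [wedgeMul_gen f s hi hk a x y]
      have hπ : (exteriorPower.map (n - i) π (gen f s (n - i) k hk (x ⊗ₜ y))).1 =
          ExteriorAlgebra.map (π.comp f) x.1 * ExteriorAlgebra.map (π.comp s) y.1 := by
        rw [map_coe, coe_gen_tmul, map_mul, ← AlgHom.comp_apply, ← AlgHom.comp_apply,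
          ExteriorAlgebra.map_comp_map, ExteriorAlgebra.map_comp_map]
      rcases Nat.eq_zero_or_pos (k : ℕ) with hk0 | hk0
      · obtain ⟨r, hr⟩ : ∃ r : R, algebraMap R (ExteriorAlgebra R P) r = x.1 := by
          obtain ⟨x, hx⟩ := x
          rw [hk0, ExteriorAlgebra.exteriorPower, pow_zero, Submodule.mem_one] at hx
          exact hx
        rw [show π.comp s = LinearMap.id from LinearMap.ext hs, ← hr, AlgHom.commutes,
          ExteriorAlgebra.map_id, AlgHom.id_apply, ← Algebra.smul_def] at hπ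
        generalize exteriorPower.map (n - i) π _ = z at hπ ⊢
        obtain ⟨k, hk'⟩ := k
        obtain rfl : k = 0 := hk0
        refine ((hc 0 i hi (wedgeMul (show i + 0 = i from rfl) a x) ⟨y.1, y.2⟩).2 :).trans ?_
        rw [show wedgeMul (show i + 0 = i from rfl) a x = r • a from Subtype.ext (by
            show a.1 * x.1 = r • a.1
            rw [← hr, ← Algebra.commutes, Algebra.smul_def]),
          TensorProduct.smul_tmul]
        exact congrArg (a ⊗ₜ[R] ·) (Subtype.ext hπ.symm)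
      · rw [(hc i _ _ _ _).1 (by omega), show exteriorPower.map (n - i) π _ = 0 from Subtype.ext (hπ.trans (by
          rw [← map_coe, map_ιMulti_eq_zero_of_zero (φ := π.comp f) hπf k hk0 x]; exact zero_mul _)), TensorProduct.tmul_zero]

include hf hex hs in
/-- **The graded pieces of the filtration.** -/
theorem exists_gr (n i : ℕ) (hi : i ≤ n) :
    ∃ g : ↥(fil (M := M) f n i) →ₗ[R] ↥(⋀[R]^i P) ⊗[R] ↥(⋀[R]^(n - i) Q),
      (∀ (a : ↥(⋀[R]^i P)) (m : ↥(⋀[R]^(n - i) M))
        (hm : wedgeMul (Nat.add_sub_cancel' hi) (exteriorPower.map i f a) m ∈ fil f n i),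
        g ⟨_, hm⟩ = a ⊗ₜ exteriorPower.map (n - i) π m) ∧
      Function.Surjective g ∧ (∀ z, g z = 0 ↔ z.1 ∈ fil f n (i + 1)) ∧ fil f n (i + 1) ≤ fil f n i := by
  obtain ⟨c, hc⟩ := exists_components f π hf hex s hs n
  refine ⟨(c i).comp (fil (M := M) f n i).subtype,
    fun a m _ => component_wedgeMul f π hf hex s hs c hc hi a m, ?_, fun z => ⟨fun hz => ?_, fun hz => ?_⟩, ?_⟩
  · intro t
    refine ⟨⟨gen f s n i hi t, range_gen_le f s le_rfl hi ⟨t, rfl⟩⟩, ?_⟩
    show c i (gen f s n i hi t) = t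
    induction t with
    | zero => simp
    | add a b ha hb => rw [map_add, map_add, ha, hb]
    | tmul x y => exact (hc 0 i hi x y).2
  · rw [← sum_components f π hf hex s hs c hc z.1]
    refine Submodule.sum_mem _ fun j _ => ?_
    rcases lt_trichotomy (j : ℕ) i with hj | hj | hj
    · rw [component_eq_zero f π hf hex s hs c hc hj z.1 z.2, map_zero]
      exact zero_mem _
    · obtain ⟨j, hj'⟩ := j
      obtain rfl : j = i := hj
      rw [show c j z.1 = 0 from hz, map_zero]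
      exact zero_mem _
    · exact range_gen_le f s hj _ ⟨_, rfl⟩
  · exact component_eq_zero f π hf hex s hs c hc (Nat.lt_succ_self i) z.1 hz
  · intro z hz
    rw [← sum_components f π hf hex s hs c hc z]
    refine Submodule.sum_mem _ fun j _ => ?_
    rcases lt_or_ge (j : ℕ) i with hj | hj
    · rw [component_eq_zero f π hf hex s hs c hc (hj.trans (Nat.lt_succ_self i)) z hz, map_zero]
      exact zero_mem _
    · exact range_gen_le f s hj _ ⟨_, rfl⟩

include hf hex hs in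
theorem fil_zero (n : ℕ) : fil (M := M) f n 0 = ⊤ :=
  eq_top_iff.2 ((span_gen f π hf hex s hs n).ge.trans (iSup_le fun _ => range_gen_le f s (Nat.zero_le _) _))

end Split

/-- **The filtration and its graded pieces are natural.** -/
theorem gr_natural {S : Type u} [CommRing S] {σ : R →+* S} {P' M' Q' : Type v} [AddCommGroup P'] [Module S P']
    [AddCommGroup M'] [Module S M'] [AddCommGroup Q'] [Module S Q'] {T : Type*} [AddCommGroup T] [Module R T]
    {T' : Type*} [AddCommGroup T'] [Module S T'] (f : P →ₗ[R] M) (π : M →ₗ[R] Q) (f' : P' →ₗ[S] M')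
    (π' : M' →ₗ[S] Q') (rP : P → P') (rM : M → M') (rQ : Q → Q') (hf : ∀ x, rM (f x) = f' (rP x))
    (hπ : ∀ x, rQ (π x) = π' (rM x)) {n i : ℕ} (hi : i ≤ n)
    (rA : ↥(⋀[R]^i P) →ₛₗ[σ] ↥(⋀[S]^i P'))
    (hA : ∀ v, rA (exteriorPower.ιMulti R i v) = exteriorPower.ιMulti S i (rP ∘ v))
    (rB : ↥(⋀[R]^(n - i) Q) →ₛₗ[σ] ↥(⋀[S]^(n - i) Q'))
    (hB : ∀ v, rB (exteriorPower.ιMulti R (n - i) v) = exteriorPower.ιMulti S (n - i) (rQ ∘ v))
    (rK : ↥(⋀[R]^(n - i) M) →ₛₗ[σ] ↥(⋀[S]^(n - i) M'))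
    (hK : ∀ v, rK (exteriorPower.ιMulti R (n - i) v) = exteriorPower.ιMulti S (n - i) (rM ∘ v))
    (rN : ↥(⋀[R]^n M) →ₛₗ[σ] ↥(⋀[S]^n M'))
    (hN : ∀ v, rN (exteriorPower.ιMulti R n v) = exteriorPower.ιMulti S n (rM ∘ v))
    (g : ↥(fil (M := M) f n i) →ₗ[R] ↥(⋀[R]^i P) ⊗[R] ↥(⋀[R]^(n - i) Q))
    (hg : ∀ (a : ↥(⋀[R]^i P)) (m : ↥(⋀[R]^(n - i) M))
      (hm : wedgeMul (Nat.add_sub_cancel' hi) (exteriorPower.map i f a) m ∈ fil f n i),
      g ⟨_, hm⟩ = a ⊗ₜ exteriorPower.map (n - i) π m)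
    (g' : ↥(fil (M := M') f' n i) →ₗ[S] ↥(⋀[S]^i P') ⊗[S] ↥(⋀[S]^(n - i) Q'))
    (hg' : ∀ (a : ↥(⋀[S]^i P')) (m : ↥(⋀[S]^(n - i) M'))
      (hm : wedgeMul (Nat.add_sub_cancel' hi) (exteriorPower.map i f' a) m ∈ fil f' n i),
      g' ⟨_, hm⟩ = a ⊗ₜ exteriorPower.map (n - i) π' m)
    (rT : T →ₛₗ[σ] T') (ν : ↥(⋀[R]^i P) ⊗[R] ↥(⋀[R]^(n - i) Q) →ₗ[R] T)
    (ν' : ↥(⋀[S]^i P') ⊗[S] ↥(⋀[S]^(n - i) Q') →ₗ[S] T')
    (hν : ∀ a b, rT (ν (a ⊗ₜ b)) = ν' (rA a ⊗ₜ rB b)) :
    ∀ z : ↥(fil (M := M) f n i), ∃ h : rN z.1 ∈ fil f' n i, rT (ν (g z)) = ν' (g' ⟨_, h⟩) := by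
  have hgenr : ∀ (a : ↥(⋀[R]^i P)) (m : ↥(⋀[R]^(n - i) M)),
      rN (wedgeMul (Nat.add_sub_cancel' hi) (exteriorPower.map i f a) m) =
        wedgeMul (Nat.add_sub_cancel' hi) (exteriorPower.map i f' (rA a)) (rK m) := by
    intro a m
    refine map_pairing ((wedgeMul (Nat.add_sub_cancel' hi)).comp (exteriorPower.map i f))
      ((wedgeMul (Nat.add_sub_cancel' hi)).comp (exteriorPower.map i f')) rA rK rN
      (exteriorPower.ιMulti_span R i P) (exteriorPower.ιMulti_span R (n - i) M) ?_ a m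
    rintro _ ⟨v, rfl⟩ _ ⟨w, rfl⟩
    rw [LinearMap.comp_apply, LinearMap.comp_apply, exteriorPower.map_apply_ιMulti, hA,
      exteriorPower.map_apply_ιMulti, hK, wedgeMul_ιMulti, wedgeMul_ιMulti, hN]
    refine congrArg _ (funext fun j => ?_)
    simp only [Function.comp_apply]
    generalize Fin.cast _ j = j'
    refine Fin.addCases (fun j => ?_) (fun j => ?_) j' <;> simp [hf]
  have hπr : ∀ m : ↥(⋀[R]^(n - i) M),
      rB (exteriorPower.map (n - i) π m) = exteriorPower.map (n - i) π' (rK m) := by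
    intro m
    refine LinearMap.congr_fun (LinearMap.ext_on (exteriorPower.ιMulti_span R (n - i) M) ?_ :
      rB.comp (exteriorPower.map (n - i) π) = (exteriorPower.map (n - i) π').comp rK) m
    rintro _ ⟨v, rfl⟩
    rw [LinearMap.comp_apply, LinearMap.comp_apply, exteriorPower.map_apply_ιMulti, hB, hK,
      exteriorPower.map_apply_ιMulti]
    exact congrArg _ (funext fun j => hπ (v j))
  have hmem : ∀ z : ↥(fil (M := M) f n i), rN z.1 ∈ fil f' n i := by
    rintro ⟨z, hz⟩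
    rw [fil_eq f hi] at hz
    induction hz using Submodule.span_induction with
    | mem w hw =>
      obtain ⟨⟨a, m⟩, rfl⟩ := hw
      show rN (wedgeMul (Nat.add_sub_cancel' hi) (exteriorPower.map i f a) m) ∈ _
      rw [hgenr, fil_eq f' hi]
      exact Submodule.subset_span ⟨(rA a, rK m), rfl⟩
    | zero => show rN 0 ∈ _; rw [map_zero]; exact zero_mem _
    | add x y hxs hys hx hy =>
      show rN (x + y) ∈ _
      rw [map_add]
      exact add_mem (hx ((fil_eq f hi).symm ▸ hxs)) (hy ((fil_eq f hi).symm ▸ hys))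
    | smul r x hxs hx =>
      show rN (r • x) ∈ _
      rw [map_smulₛₗ]
      exact Submodule.smul_mem _ _ (hx ((fil_eq f hi).symm ▸ hxs))
  let Rf : ↥(fil (M := M) f n i) →ₛₗ[σ] ↥(fil (M := M') f' n i) :=
    { toFun := fun z => ⟨rN z.1, hmem z⟩
      map_add' := fun x y => Subtype.ext (map_add rN x.1 y.1)
      map_smul' := fun r x => Subtype.ext (map_smulₛₗ rN r x.1) }
  let A : ↥(fil (M := M) f n i) →ₛₗ[σ] T' := rT.comp (ν.comp g)
  let B : ↥(fil (M := M) f n i) →ₛₗ[σ] T' := (ν'.comp g').comp Rf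
  suffices hAB : ∀ z, A z = B z from fun z => ⟨hmem z, hAB z⟩
  have key : ∀ (w : ↥(⋀[R]^n M)) (hw : w ∈ Submodule.span R (Set.range fun p : ↥(⋀[R]^i P) × ↥(⋀[R]^(n - i) M) =>
      wedgeMul (Nat.add_sub_cancel' hi) (exteriorPower.map i f p.1) p.2)),
      A ⟨w, (fil_eq f hi).symm ▸ hw⟩ = B ⟨w, (fil_eq f hi).symm ▸ hw⟩ := by
    intro w hw
    induction hw using Submodule.span_induction with
    | mem w hw =>
      obtain ⟨⟨a, m⟩, rfl⟩ := hw
      have h' : wedgeMul (Nat.add_sub_cancel' hi) (exteriorPower.map i f' (rA a)) (rK m) ∈ fil f' n i := by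
        rw [fil_eq f' hi]
        exact Submodule.subset_span ⟨(rA a, rK m), rfl⟩
      show rT (ν (g ⟨_, _⟩)) = ν' (g' (Rf ⟨_, _⟩))
      rw [hg, hν, hπr, ← hg' (rA a) (rK m) h']
      exact congrArg ν' (congrArg g' (Subtype.ext (hgenr a m).symm))
    | zero => exact (map_zero A).trans (map_zero B).symm
    | add x y hx hy hx' hy' =>
      show A (⟨x, (fil_eq f hi).symm ▸ hx⟩ + ⟨y, (fil_eq f hi).symm ▸ hy⟩) =
        B (⟨x, (fil_eq f hi).symm ▸ hx⟩ + ⟨y, (fil_eq f hi).symm ▸ hy⟩)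
      rw [map_add, map_add, hx', hy']
    | smul r x hx hx' =>
      show A (r • ⟨x, (fil_eq f hi).symm ▸ hx⟩) = B (r • ⟨x, (fil_eq f hi).symm ▸ hx⟩)
      rw [map_smulₛₗ, map_smulₛₗ, hx']
  exact fun z => key z.1 ((fil_eq f hi) ▸ z.2)

end WedgeLib

end
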